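import Groth.Agent.RedSub.H664.Rank1

/-!
# Cocharacters of the Levi subgroup `L = Z_G(ν)`

`z : L ⟶ G` with `IsDynZ ν z`.  Translation between `L` and `G`, and the rank one lemma for the
Levi subgroup of a parabolic subgroup minimal over a minimal one.
-/

set_option autoImplicit false
set_option linter.unusedSectionVars false

universe u

open CategoryTheory MonoidalCategory CartesianMonoidalCategory MonObj GrpObj AlgebraicGeometry Limits
open Groth.Agent.Sga3B Groth.Agent.Sga3B.Parab Groth.Agent.Sga3B.Parab.Dyn998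
open Groth.Agent.Sga3B.Parab.DynLevi998 Groth.Agent.Sga3B.Parab.DynInter998
open Groth.Agent.Sga3B.Parab.DynExist998
open Groth.Agent.RedSub.H664.Comb Groth.Agent.RedSub.H664.Calc2 Groth.Agent.RedSub.H664.Calc3
open Groth.Agent.RedSub.H664.Ad Groth.Agent.RedSub.H664.RedFacts Groth.Agent.RedSub.H664.Min

namespace Groth.Agent.RedSub.H664.LeviSub

section Any

variable {S : Scheme.{u}} {G L : Over S} [GrpObj G] [GrpObj L]

lemma pt_map_iff (z : L ⟶ G) [IsMonHom z] [IsClosedImmersion z.left] [Mono z] (k : Kd)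
    {κ : Red.Gm S ⟶ L} {X : Over S} {g : X ⟶ L} : k.pt (κ ≫ z) (g ≫ z) ↔ k.pt κ g := by
  cases k
  · exact ptP_map_iff z
  · exact ptU_map_iff z
  · exact ptZ_map_iff z

lemma negLam_comp (z : L ⟶ G) (κ : Red.Gm S ⟶ L) : negLam (κ ≫ z) = negLam κ ≫ z := by
  rw [negLam, negLam, Category.assoc]

lemma ad_comp (z : L ⟶ G) [IsMonHom z] (w : 𝟙_ (Over S) ⟶ L) {X : Over S} (g : X ⟶ L) :
    ad (w ≫ z) (g ≫ z) = ad w g ≫ z := by
  rw [ad, ad, MonObj.mul_comp, MonObj.mul_comp, GrpObj.inv_comp, Category.assoc]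

lemma comm_comp (z : L ⟶ G) [IsMonHom z] {κ κ' : Red.Gm S ⟶ L} (h : Comm κ κ') :
    Comm (κ ≫ z) (κ' ≫ z) := by
  intro X s t
  rw [← Category.assoc, ← Category.assoc, ← MonObj.mul_comp, ← MonObj.mul_comp, h]

lemma comm_of_comp (z : L ⟶ G) [IsMonHom z] [Mono z] {κ κ' : Red.Gm S ⟶ L}
    (h : Comm (κ ≫ z) (κ' ≫ z)) : Comm κ κ' := by
  intro X s t
  rw [← cancel_mono z, MonObj.mul_comp, MonObj.mul_comp, Category.assoc, Category.assoc, h]

variable {ν : Red.Gm S ⟶ G} {z : L ⟶ G} (hz : IsDynZ ν z)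
include hz

lemma comm_map (κ : Red.Gm S ⟶ L) : Comm ν (κ ≫ z) :=
  comm_iff_ptZ.2 ((hz.iff_ptZ _ _).1 ⟨κ, rfl⟩)

lemma exists_lift {β : Red.Gm S ⟶ G} [IsMonHom β] (h : Comm ν β) :
    ∃ b : Red.Gm S ⟶ L, IsMonHom b ∧ b ≫ z = β := by
  obtain ⟨b, hb⟩ := (hz.iff_ptZ _ _).2 (comm_iff_ptZ.1 h)
  have := hz.isMonHom
  have := hz.mono
  exact ⟨b, OppS172.isMonHom_of_comp b z (by rw [hb]; infer_instance), hb⟩

end Any

variable {R : Type u} [CommRing R] {G : Over (Spec (CommRingCat.of R))} [GrpObj G]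
variable {lam ν : Red.Gm (Spec (CommRingCat.of R)) ⟶ G} [IsMonHom lam] [IsMonHom ν]

/-- `D5` for all reductive groups over `R`. -/
def D5All (R : Type u) [CommRing R] : Prop :=
  ∀ (H : Over (Spec (CommRingCat.of R))) [GrpObj H], Red.IsReductive H → D5 H

section Levi

variable [IsAffineHom G.hom]

/-- if `P(λ) ≤ P(ν)`, `λ` and `ν` commute, then `P(λ) = (Z(ν) ∩ P(λ)) U(ν)`, etc. -/
lemma exists_levi_le (hc : Comm ν lam) (h : Le lam ν) (k : Kd)
    {X : Over (Spec (CommRingCat.of R))} {g : X ⟶ G} (hg : k.pt lam g) :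
    ∃ z u : X ⟶ G, z * u = g ∧ PtZ ν z ∧ k.pt lam z ∧ PtU ν u ∧ k.pt lam u := by
  have h1 : PtP lam g := by
    cases k
    · exact hg
    · exact PtU.ptP hg
    · exact PtZ.ptP hg
  obtain ⟨z, u, hz, hu, rfl⟩ := PtP.exists_levi (h X g h1)
  obtain ⟨h2, h3⟩ := levi_pt hc k hz hu hg
  exact ⟨z, u, rfl, hz, h2, hu, h3⟩

variable [LocallyOfFiniteType G.hom]

/-- Minimality passes to the Levi subgroup. -/
theorem isMin_levi (hG : Red.IsReductive G) (hc : Comm ν lam) (h : Le lam ν) (hmin : IsMin lam)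
    {L : Over (Spec (CommRingCat.of R))} [GrpObj L] {z : L ⟶ G} (hz : IsDynZ ν z)
    {l : Red.Gm (Spec (CommRingCat.of R)) ⟶ L} (hl : l ≫ z = lam) : IsMin l := by
  intro κ hκ hle
  have h2 := hG.2.1
  have hzm := hz.isMonHom
  have hzmono := hz.mono
  have hzcl : IsClosedImmersion z.left := hz.isClosedImmersion
  have hck := comm_map hz κ
  obtain ⟨N, hN0, hN⟩ := exists_N hck
  have h3 : Le (cmb N 1 ν (κ ≫ z)) lam := by
    intro X g hg
    obtain ⟨a, b, rfl, ha, ha', hb⟩ := ((hN N le_rfl X g).1).1 hg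
    refine PtP.mul ?_ (ptU_of_le hG hc.symm h hb).ptP
    obtain ⟨a', rfl⟩ := (hz.iff_ptZ _ a).2 ha
    have h4 : PtP κ a' := (pt_map_iff z Kd.P).1 ha'
    have h5 := (pt_map_iff z Kd.P (κ := l)).2 (hle _ _ h4)
    rwa [hl] at h5
  have h4 := hmin _ (isMonHom_cmb hck N 1) h3
  intro X x hx
  have h5 : PtP lam (x ≫ z) := by
    have := (pt_map_iff z Kd.P (κ := l)).2 hx
    rwa [hl] at this
  have h6 : PtZ ν (x ≫ z) := (hz.iff_ptZ _ _).1 ⟨x, rfl⟩
  have h7 : PtP (κ ≫ z) (x ≫ z) := (pt_cmb_iff hck Kd.P one_pos h6).1 (h4 _ _ h5)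
  exact (pt_map_iff z Kd.P).1 h7

/-- **The rank one lemma in the Levi subgroup `Z(ν)`**, where `P(ν)` is minimal over the minimal
`P(λ)`. -/
theorem exists_opp_levi (hG : Red.IsReductive G) (h5 : D5All R) (hc : Comm ν lam)
    (h : Le lam ν) (hmin : IsMin lam)
    (hnext : ∀ κ : Red.Gm (Spec (CommRingCat.of R)) ⟶ G, IsMonHom κ → Comm lam κ → Le lam κ →
      Le κ ν → Le κ lam ∨ Le ν κ)
    {x : 𝟙_ (Over (Spec (CommRingCat.of R))) ⟶ G} (hxZ : PtZ ν x) (hxU : PtU lam x) (hx : x ≠ 1) :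
    ∃ κ : Red.Gm (Spec (CommRingCat.of R)) ⟶ G, IsMonHom κ ∧ Comm ν κ ∧
      (∀ (X : Over (Spec (CommRingCat.of R))) (g : X ⟶ G), PtZ ν g →
        (PtP (negLam κ) g ↔ PtP (negLam lam) g)) ∧
      (∀ (X : Over (Spec (CommRingCat.of R))) (g : X ⟶ G), PtZ ν g → PtU κ g →
        PtU (ad x (negLam lam)) g) := by
  have h1 := hG.1
  have h2 := hG.2.1
  obtain ⟨L, _, z, hz, -⟩ := exists_isDynZ ν
  have hzm := hz.isMonHom
  have hzmono := hz.mono
  have hzcl : IsClosedImmersion z.left := hz.isClosedImmersion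
  have hL : Red.IsReductive L := isReductive_of_isDynZ ν K3b143.dynK3 hG z hz
  have hLa := hL.1
  have hLs := hL.2.1
  have h5L : D5 L := h5 L hL
  obtain ⟨l, hlm, hl⟩ := exists_lift hz hc
  obtain ⟨y, hy⟩ := (hz.iff_ptZ _ x).2 hxZ
  have hlmin : IsMin l := isMin_levi hG hc h hmin hz hl
  have hmax : ∀ κ : Red.Gm (Spec (CommRingCat.of R)) ⟶ L, IsMonHom κ → Le (negLam l) κ →
      Le κ (negLam l) ∨ ∀ (X : Over (Spec (CommRingCat.of R))) (g : X ⟶ L), PtP κ g := by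
    intro κ hκ hle
    obtain ⟨w, hw, hcw⟩ := exists_comm hL h5L hle
    have e1 : Eqv (ad w κ) κ := eqv_ad hw
    -- `κ' = ad w κ`
    have hcw' : Comm l (negLam (ad w κ)) := by
      have := hcw.neg_left.neg_right
      rwa [negLam_negLam] at this
    have h6 : Le l (negLam (ad w κ)) := by
      have := le_neg hL hcw (hle.trans e1.2)
      rwa [negLam_negLam] at this
    have hck := comm_map hz (negLam (ad w κ))
    have hclk : Comm lam (negLam (ad w κ) ≫ z) := by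
      rw [← hl]
      exact comm_comp z hcw'
    obtain ⟨N, hN0, hN⟩ := exists_N hck
    have hm := isMonHom_cmb hck N 1
    have h7 : Le lam (cmb N 1 ν (negLam (ad w κ) ≫ z)) := by
      intro X g hg
      obtain ⟨a, b, rfl, ha, ha', hb, -⟩ := exists_levi_le hc h Kd.P hg
      refine ((hN N le_rfl X _).1).2 ⟨a, b, rfl, ha, ?_, hb⟩
      obtain ⟨a', rfl⟩ := (hz.iff_ptZ _ a).2 ha
      rw [← hl] at ha'
      exact (pt_map_iff z Kd.P).2 (h6 _ _ ((pt_map_iff z Kd.P).1 ha'))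
    have h8 : Le (cmb N 1 ν (negLam (ad w κ) ≫ z)) ν := by
      intro X g hg
      obtain ⟨a, b, rfl, ha, -, hb⟩ := ((hN N le_rfl X g).1).1 hg
      exact PtP.mul ha.ptP hb.ptP
    rcases hnext _ hm (hc.cmb_left hclk.symm N 1).symm h7 h8 with h9 | h9
    · left
      have h10 : Le (negLam (ad w κ)) l := by
        intro X g hg
        have h11 : PtP lam (g ≫ z) := h9 _ _ ((pt_cmb_iff hck Kd.P one_pos
          ((hz.iff_ptZ _ _).1 ⟨g, rfl⟩)).2 ((pt_map_iff z Kd.P).2 hg))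
        rw [← hl] at h11
        exact (pt_map_iff z Kd.P).1 h11
      have h12 := le_neg hL hcw'.symm h10
      rw [negLam_negLam] at h12
      exact e1.2.trans h12
    · right
      have h10 : ∀ (X : Over (Spec (CommRingCat.of R))) (g : X ⟶ L), PtP (negLam (ad w κ)) g := by
        intro X g
        have h11 : PtZ ν (g ≫ z) := (hz.iff_ptZ _ _).1 ⟨g, rfl⟩
        exact (pt_map_iff z Kd.P).1 ((pt_cmb_iff hck Kd.P one_pos h11).1 (h9 _ _ h11.ptP))
      intro X g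
      exact e1.1 _ _ ((ptZ_neg_iff g).1 (ptZ_of_forall_ptP hL _ h10 X g)).ptP
  have hy' : ¬ PtP (negLam l) y := by
    intro h6
    apply hx
    have h7 : PtP (negLam lam) x := by
      rw [← hy, ← hl, negLam_comp]
      exact (pt_map_iff z Kd.P).2 h6
    exact eq_one_of_ptU_ptP' hxU h7
  obtain ⟨κ, hκ, e1, e2⟩ := Rank1.opp_ad hL h5L (hlmin.neg hL h5L) hmax hy'
  refine ⟨κ ≫ z, inferInstance, comm_map hz κ, fun X g hg => ?_, fun X g hg hgU => ?_⟩
  · obtain ⟨g', rfl⟩ := (hz.iff_ptZ _ g).2 hg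
    rw [← hl, negLam_comp, negLam_comp]
    exact (pt_map_iff z Kd.P (κ := negLam κ)).trans
      (Iff.trans ⟨fun h => e2.1 _ _ h, fun h => e2.2 _ _ h⟩
        (pt_map_iff z Kd.P (κ := negLam l)).symm)
  · obtain ⟨g', rfl⟩ := (hz.iff_ptZ _ g).2 hg
    have h6 : PtU κ g' := (pt_map_iff z Kd.U).1 hgU
    have h7 := ptU_of_le' hL h5L e1.2 h6
    rw [← hy, ← hl, negLam_comp, ad_comp]
    exact (pt_map_iff z Kd.U).2 h7

end Levi

end Groth.Agent.RedSub.H664.LeviSub
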