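import Groth.Agent.RedSub.H664.Calc3

/-!
# Conjugation of cocharacters by sections

`ad w g = w g w⁻¹` for a global section `w : 𝟙_ ⟶ G` and a point (or a cocharacter) `g`.
-/

set_option autoImplicit false
set_option linter.unusedSectionVars false

universe u

open CategoryTheory MonoidalCategory CartesianMonoidalCategory MonObj GrpObj AlgebraicGeometry Limits
open Groth.Agent.Sga3B Groth.Agent.Sga3B.Parab Groth.Agent.Sga3B.Parab.Dyn998
open Groth.Agent.Sga3B.Parab.DynLevi998 Groth.Agent.Sga3B.Parab.DynInter998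
open Groth.Agent.Sga3B.Par.ConjDyn895
open Groth.Agent.RedSub.H664.Comb Groth.Agent.RedSub.H664.Calc2 Groth.Agent.RedSub.H664.Calc3

namespace Groth.Agent.RedSub.H664.Ad

section Any

variable {S : Scheme.{u}} {G : Over S} [GrpObj G]

/-- conjugation by a section -/
noncomputable def ad (w : 𝟙_ (Over S) ⟶ G) {X : Over S} (g : X ⟶ G) : X ⟶ G :=
  (toUnit X ≫ w) * g * (toUnit X ≫ w)⁻¹

lemma comp_ad (w : 𝟙_ (Over S) ⟶ G) {X Y : Over S} (x : Y ⟶ X) (g : X ⟶ G) :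
    x ≫ ad w g = ad w (x ≫ g) := by
  rw [ad, ad, MonObj.comp_mul, MonObj.comp_mul, GrpObj.comp_inv, ← Category.assoc,
    comp_toUnit]

@[simp] lemma ad_one {X : Over S} (g : X ⟶ G) : ad 1 g = g := by
  rw [ad, MonObj.comp_one]
  group

lemma ad_mul (w w' : 𝟙_ (Over S) ⟶ G) {X : Over S} (g : X ⟶ G) :
    ad (w * w') g = ad w (ad w' g) := by
  rw [ad, ad, ad, MonObj.comp_mul]
  group

@[simp] lemma ad_inv_ad (w : 𝟙_ (Over S) ⟶ G) {X : Over S} (g : X ⟶ G) : ad w⁻¹ (ad w g) = g := by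
  rw [← ad_mul, inv_mul_cancel, ad_one]

@[simp] lemma ad_ad_inv (w : 𝟙_ (Over S) ⟶ G) {X : Over S} (g : X ⟶ G) : ad w (ad w⁻¹ g) = g := by
  rw [← ad_mul, mul_inv_cancel, ad_one]

lemma map_mul' (w : 𝟙_ (Over S) ⟶ G) {X : Over S} (g h : X ⟶ G) :
    ad w (g * h) = ad w g * ad w h := by
  rw [ad, ad, ad]
  group

lemma map_inv' (w : 𝟙_ (Over S) ⟶ G) {X : Over S} (g : X ⟶ G) : ad w g⁻¹ = (ad w g)⁻¹ := by
  rw [ad, ad]
  group

lemma cj_eq (w : 𝟙_ (Over S) ⟶ G) {X : Over S} (g : X ⟶ G) : cj w g = ad w⁻¹ g := by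
  rw [cj, ad, GrpObj.comp_inv, _root_.inv_inv]

lemma isConj_ad (w : 𝟙_ (Over S) ⟶ G) (α : Red.Gm S ⟶ G) : IsConj α w (ad w α) := by
  intro X t
  rw [comp_ad, ad]

instance isMonHom_ad (w : 𝟙_ (Over S) ⟶ G) (α : Red.Gm S ⟶ G) [IsMonHom α] :
    IsMonHom (ad w α) := by
  apply Pts.isMonHom_of_points
  intro X x y
  rw [comp_ad, comp_ad, comp_ad, MonObj.mul_comp _ _ α, map_mul']

lemma pt_ad_iff (k : Kd) (w : 𝟙_ (Over S) ⟶ G) (α : Red.Gm S ⟶ G) {X : Over S} (g : X ⟶ G) :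
    k.pt (ad w α) g ↔ k.pt α (ad w⁻¹ g) := by
  rw [← cj_eq]
  cases k
  · exact ptP_conj_iff (isConj_ad w α) g
  · exact ptU_conj_iff (isConj_ad w α) g
  · exact ptZ_conj_iff (isConj_ad w α) g

lemma pt_ad_ad_iff (k : Kd) (w : 𝟙_ (Over S) ⟶ G) (α : Red.Gm S ⟶ G) {X : Over S} (g : X ⟶ G) :
    k.pt (ad w α) (ad w g) ↔ k.pt α g := by
  rw [pt_ad_iff, ad_inv_ad]

lemma negLam_ad (w : 𝟙_ (Over S) ⟶ G) (α : Red.Gm S ⟶ G) :
    negLam (ad w α) = ad w (negLam α) := by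
  rw [negLam, comp_ad, negLam]

lemma sm_ad (w : 𝟙_ (Over S) ⟶ G) (a : ℤ) (α : Red.Gm S ⟶ G) :
    sm a (ad w α) = ad w (sm a α) := by
  rw [sm, comp_ad, sm]

lemma cmb_ad (w : 𝟙_ (Over S) ⟶ G) (a b : ℤ) (α β : Red.Gm S ⟶ G) :
    cmb a b (ad w α) (ad w β) = ad w (cmb a b α β) := by
  rw [cmb_eq, cmb_eq, sm_ad, sm_ad, map_mul']

lemma Comm.ad {α β : Red.Gm S ⟶ G} (h : Comm α β) (w : 𝟙_ (Over S) ⟶ G) :
    Comm (ad w α) (ad w β) := by
  intro X s t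
  rw [comp_ad, comp_ad, ← map_mul', ← map_mul', h]

lemma _root_.Groth.Agent.RedSub.H664.Calc2.Kd.pt_mul [IsAffineHom G.hom] (k : Kd)
    {α : Red.Gm S ⟶ G} [IsMonHom α] {X : Over S} {g h : X ⟶ G} (hg : k.pt α g) (hh : k.pt α h) :
    k.pt α (g * h) := by
  cases k
  · exact PtP.mul hg hh
  · exact PtU.mul hg hh
  · exact PtZ.mul hg hh

lemma _root_.Groth.Agent.RedSub.H664.Calc2.Kd.pt_inv [IsAffineHom G.hom] (k : Kd)
    {α : Red.Gm S ⟶ G} [IsMonHom α] {X : Over S} {g : X ⟶ G} (hg : k.pt α g) :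
    k.pt α g⁻¹ := by
  cases k
  · exact PtP.inv hg
  · exact PtU.inv hg
  · exact PtZ.inv hg

lemma _root_.Groth.Agent.RedSub.H664.Calc2.Kd.pt_comp (k : Kd)
    {α : Red.Gm S ⟶ G} {X Y : Over S} {g : X ⟶ G} (hg : k.pt α g) (y : Y ⟶ X) :
    k.pt α (y ≫ g) := by
  cases k
  · exact PtP.comp hg y
  · exact PtU.comp hg y
  · exact PtZ.comp hg y

lemma _root_.Groth.Agent.RedSub.H664.Calc2.Kd.pt_one (k : Kd) (α : Red.Gm S ⟶ G) {X : Over S} :
    k.pt α (1 : X ⟶ G) := by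
  cases k
  · intro C _ c x
    rw [MonObj.comp_one]
    exact limEx_one α
  · intro C _ c x
    rw [MonObj.comp_one]
    exact limOne_one α
  · intro C _ c x
    rw [MonObj.comp_one]
    exact orbConst_one α

/-- a section centralising `α` does not change `α` -/
lemma ad_eq_of_ptZ {w : 𝟙_ (Over S) ⟶ G} {α : Red.Gm S ⟶ G} (hw : PtZ α w) : ad w α = α := by
  rw [DynExist998.ptZ_iff_centralizes] at hw
  have h1 := hw (Red.Gm S) (toUnit _) (𝟙 _)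
  rw [Category.id_comp] at h1
  rw [ad, h1]
  group

section PtP

variable [IsAffineHom G.hom] {α : Red.Gm S ⟶ G} [IsMonHom α] {w : 𝟙_ (Over S) ⟶ G}
  (hw : PtP α w)
include hw

lemma ptP_ad_iff {X : Over S} (g : X ⟶ G) : PtP (ad w α) g ↔ PtP α g := by
  have h0 := pt_ad_iff Kd.P w α g
  change PtP (ad w α) g ↔ PtP α (ad w⁻¹ g) at h0
  rw [h0, ad]
  have h1 : PtP α (toUnit X ≫ w) := hw.comp _
  rw [GrpObj.comp_inv, _root_.inv_inv]
  constructor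
  · intro h
    have h2 := (h1.mul h).mul h1.inv
    have h3 : (toUnit X ≫ w) * ((toUnit X ≫ w)⁻¹ * g * (toUnit X ≫ w)) * (toUnit X ≫ w)⁻¹ = g := by
      group
    rwa [h3] at h2
  · intro h
    exact (h1.inv.mul h).mul h1

lemma ptU_ad_iff {X : Over S} (g : X ⟶ G) : PtU (ad w α) g ↔ PtU α g := by
  have h0 := pt_ad_iff Kd.U w α g
  change PtU (ad w α) g ↔ PtU α (ad w⁻¹ g) at h0
  rw [h0, ad]
  have h1 : PtP α (toUnit X ≫ w) := hw.comp _
  constructor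
  · intro h
    have h2 := PtU.conj h h1
    have h3 : (toUnit X ≫ w) * ((toUnit X ≫ w⁻¹) * g * (toUnit X ≫ w⁻¹)⁻¹) * (toUnit X ≫ w)⁻¹ = g := by
      rw [GrpObj.comp_inv]
      group
    rwa [h3] at h2
  · intro h
    rw [GrpObj.comp_inv]
    exact PtU.conj h h1.inv

end PtP

end Any

section Affine

variable {R : Type u} [CommRing R] {G : Over (Spec (CommRingCat.of R))} [GrpObj G]
variable {α β : Red.Gm (Spec (CommRingCat.of R)) ⟶ G}

lemma Le.ad (h : Le α β) (w : 𝟙_ (Over (Spec (CommRingCat.of R))) ⟶ G) :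
    Le (ad w α) (ad w β) := by
  intro X g hg
  have h1 := pt_ad_iff Kd.P w α g
  have h2 := pt_ad_iff Kd.P w β g
  exact h2.2 (h _ _ (h1.1 hg))

lemma Le.of_ad {w : 𝟙_ (Over (Spec (CommRingCat.of R))) ⟶ G} (h : Le (Ad.ad w α) (Ad.ad w β)) :
    Le α β := by
  have h1 := Le.ad h w⁻¹
  rwa [ad_inv_ad, ad_inv_ad] at h1

variable [IsAffineHom G.hom]

lemma le_ad [IsMonHom α] {w : 𝟙_ (Over (Spec (CommRingCat.of R))) ⟶ G} (hw : PtP α w) :
    Le α (Ad.ad w α) :=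
  fun _ g hg => (ptP_ad_iff hw g).2 hg

lemma ad_le [IsMonHom α] {w : 𝟙_ (Over (Spec (CommRingCat.of R))) ⟶ G} (hw : PtP α w) :
    Le (Ad.ad w α) α :=
  fun _ g hg => (ptP_ad_iff hw g).1 hg

end Affine

end Groth.Agent.RedSub.H664.Ad
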