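import Groth.Agent.RedSub.H664.DenseInf
import Groth.Agent.RedSub.H663.LiftPts
import Groth.Agent.Sga3B.Par.LevFin622
import Groth.Agent.Sga3B.SplitFin885

/-!
# Transversal conjugates of parabolic subgroups over a semi-local base
-/

set_option autoImplicit false
set_option linter.unusedSectionVars false

universe u

open CategoryTheory MonoidalCategory CartesianMonoidalCategory MonObj GrpObj AlgebraicGeometry Limits
open Groth.Agent.Sga3B Groth.Agent.Sga3B.Parab Groth.Agent.Sga3B.Parab.Dyn998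
open Groth.Agent.Sga3B.Parab.DynLevi998 Groth.Agent.Sga3B.Parab.DynInter998
open Groth.Agent.Sga3B.Parab.DynExist998 Groth.Agent.Sga3B.Parab.SecThrough
open Groth.Agent.RedSub.H661 Groth.Agent.RedSub.H661.Dense Groth.Agent.RedSub.H661.Borels
open Groth.Agent.RedSub.H664.Comb Groth.Agent.RedSub.H664.Calc2 Groth.Agent.RedSub.H664.Calc3
open Groth.Agent.RedSub.H664.Ad Groth.Agent.RedSub.H664.RedFacts Groth.Agent.RedSub.H664.Min
open Groth.Agent.RedSub.H664.LeviSub Groth.Agent.RedSub.H664.Transp Groth.Agent.RedSub.H664.SecT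
open Groth.Agent.RedSub.H664.BcSec Groth.Agent.RedSub.H664.DenseK Groth.Agent.RedSub.H664.DenseInf

namespace Groth.Agent.RedSub.H664.Assembly

/-- An open subset of an affine scheme containing the closed points is everything. -/
lemma forall_of_closed {A : Type u} [CommRing A] {W : Set (Spec (CommRingCat.of A))}
    (hW : IsOpen W) (h : ∀ s : Spec (CommRingCat.of A), IsClosed {s} → s ∈ W)
    (x : Spec (CommRingCat.of A)) : x ∈ W := by
  let x' : PrimeSpectrum A := x
  obtain ⟨m, hm, hxm⟩ := Ideal.exists_le_maximal x'.asIdeal x'.isPrime.ne_top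
  let s : PrimeSpectrum A := ⟨m, hm.isPrime⟩
  have h1 : x' ⤳ s := (PrimeSpectrum.le_iff_specializes x' s).1 hxm
  exact h1.mem_open hW (h s ((PrimeSpectrum.isClosed_singleton_iff_isMaximal s).2 hm))

section Field

variable {k : Type u} [Field k] {G : Over (Spec (CommRingCat.of k))} [GrpObj G]
  {P₁ P₂ Q : Over (Spec (CommRingCat.of k))} [GrpObj P₁] [GrpObj P₂] [GrpObj Q]

/-- **Field case.** -/
theorem exists_dense_any (hfin : ∀ (k : Type u) [Field k] [Finite k], D5All k)
    (halg : ∀ (K : Type u) [Field K] [IsAlgClosed K], D5All K)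
    (hG : Red.IsReductive G)
    (mu lam₁ lam₂ : Red.Gm (Spec (CommRingCat.of k)) ⟶ G) [IsMonHom mu] [IsMonHom lam₁]
    [IsMonHom lam₂] {p₁ : P₁ ⟶ G} {p₂ : P₂ ⟶ G} {q : Q ⟶ G} (h₁ : IsDynP lam₁ p₁)
    (h₂ : IsDynP lam₂ p₂) (hq : IsDynP mu q) (hp₁ : Red.IsParabolic p₁) (hp₂ : Red.IsParabolic p₂)
    (hqp : Red.IsParabolic q) :
    ∃ a b : 𝟙_ (Over (Spec (CommRingCat.of k))) ⟶ G, PtU mu a ∧ PtU (negLam mu) b ∧
      ∀ s, DenseAt p₁ (ad (a * b) q) s ∧ DenseAt p₂ (ad (a * b) q) s := by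
  rcases finite_or_infinite k with h | h
  · exact exists_dense hG (hfin k) mu lam₁ lam₂ h₁ h₂ hq
  · exact exists_dense_inf (AlgebraicClosure k) hG (halg (AlgebraicClosure k)) mu lam₁ lam₂ h₁ h₂ hq
      hp₁ hp₂ hqp

end Field

section Semilocal

variable {A : Type u} [CommRing A] {G P P' Q : Over (Spec (CommRingCat.of A))} [GrpObj G]
  [GrpObj P] [GrpObj P'] [GrpObj Q]

/-- **Main theorem.** -/
theorem main (hfin : ∀ (k : Type u) [Field k] [Finite k], D5All k)
    (halg : ∀ (K : Type u) [Field K] [IsAlgClosed K], D5All K)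
    (hA : {m : Ideal A | m.IsMaximal}.Finite) (hG : Red.IsReductive G) (p : P ⟶ G)
    (p' : P' ⟶ G) (q : Q ⟶ G) (hP : Red.IsParabolic p) (hP' : Red.IsParabolic p')
    (hQ : Red.IsParabolic q) :
    ∃ g : 𝟙_ (Over (Spec (CommRingCat.of A))) ⟶ G,
      Smooth ((p ⊗ₘ ad g q) ≫ μ[G]).left ∧ Smooth ((p' ⊗ₘ ad g q) ≫ μ[G]).left := by
  have hGa : IsAffineHom G.hom := hG.1
  have hGs : Smooth G.hom := hG.2.1
  obtain ⟨lam₁, _, h₁⟩ := Par.LevFin622.exists_cochar SplitFin885.splitTStmt hG p hP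
  obtain ⟨lam₂, _, h₂⟩ := Par.LevFin622.exists_cochar SplitFin885.splitTStmt hG p' hP'
  obtain ⟨mu, _, hq⟩ := Par.LevFin622.exists_cochar SplitFin885.splitTStmt hG q hQ
  obtain ⟨U, _, u, hu, -⟩ := exists_isDynU mu
  obtain ⟨V, _, v, hv, -⟩ := exists_isDynU (negLam mu)
  have hX : IsAffRet (U ⊗ V) :=
    (UAff.isAffRet_of_isDynU mu u hu).tensor (UAff.isAffRet_of_isDynU (negLam mu) v hv)
  let τ : U ⊗ V ⟶ G := (fst U V ≫ u) * (snd U V ≫ v)
  -- the field case at the points of `Spec A`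
  have key : ∀ s : Spec (CommRingCat.of A), ∃ y : Over.mk
      ((Spec (CommRingCat.of A)).fromSpecResidueField s) ⟶ U ⊗ V,
      ∀ x, DenseAt ((Over.pullback ((Spec (CommRingCat.of A)).fromSpecResidueField s)).map p)
        (ad (sec ((Spec (CommRingCat.of A)).fromSpecResidueField s) (y ≫ τ))
          ((Over.pullback ((Spec (CommRingCat.of A)).fromSpecResidueField s)).map q)) x ∧
        DenseAt ((Over.pullback ((Spec (CommRingCat.of A)).fromSpecResidueField s)).map p')
        (ad (sec ((Spec (CommRingCat.of A)).fromSpecResidueField s) (y ≫ τ))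
          ((Over.pullback ((Spec (CommRingCat.of A)).fromSpecResidueField s)).map q)) x := by
    intro s
    let f : Spec (CommRingCat.of ((Spec (CommRingCat.of A)).residueField s)) ⟶
      Spec (CommRingCat.of A) := (Spec (CommRingCat.of A)).fromSpecResidueField s
    obtain ⟨a, b, ha, hb, hd⟩ := exists_dense_any
      (k := (Spec (CommRingCat.of A)).residueField s) hfin halg
      (RedBcAny636.isReductive_bc f hG) (bcLam mu f)
      (bcLam lam₁ f) (bcLam lam₂ f) (h₁.bc f) (h₂.bc f) (hq.bc f)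
      (H648.BorBc.isParabolic_bc f hG hP) (H648.BorBc.isParabolic_bc f hG hP')
      (H648.BorBc.isParabolic_bc f hG hQ)
    obtain ⟨a', rfl⟩ := ((hu.bc f).iff_ptU _ _).2 ha
    obtain ⟨b', rfl⟩ := ((hv.bc f).iff_ptU _ _).2 (by rw [OppS172.bcLam_negLam]; exact hb)
    obtain ⟨α, rfl⟩ := exists_sec f a'
    obtain ⟨β, rfl⟩ := exists_sec f b'
    rw [← sec_comp, ← sec_comp, ← sec_mul] at hd
    have hy : lift α β ≫ τ = (α ≫ u) * (β ≫ v) := by
      rw [MonObj.comp_mul, ← Category.assoc, ← Category.assoc, lift_fst, lift_snd]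
    rw [← hy] at hd
    exact ⟨lift α β, hd⟩
  choose w hw using key
  obtain ⟨c, hc⟩ := H663.LiftPts.exists_section hA hX fun s _ => w s
  have hg : ∀ s : Spec (CommRingCat.of A), IsClosed {s} →
      DenseAt p (ad (c ≫ τ) q) s ∧ DenseAt p' (ad (c ≫ τ) q) s := by
    intro s hs
    have h3 : bcSec ((Spec (CommRingCat.of A)).fromSpecResidueField s) (c ≫ τ) =
        sec ((Spec (CommRingCat.of A)).fromSpecResidueField s) (w s ≫ τ) := by
      rw [bcSec_eq, ← hc s hs, Category.assoc]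
    have h4 := hw s (IsLocalRing.closedPoint _)
    rw [← h3, ← map_ad] at h4
    have h5 : ((Spec (CommRingCat.of A)).fromSpecResidueField s) (IsLocalRing.closedPoint _) = s :=
      Scheme.fromSpecResidueField_apply _ _
    have h6 := denseAt_of_bc _ h4.1
    have h7 := denseAt_of_bc _ h4.2
    rw [h5] at h6 h7
    exact ⟨h6, h7⟩
  have hq' := isParabolic_ad hQ (c ≫ τ)
  refine ⟨c ≫ τ, smooth_of_locSm ?_, smooth_of_locSm ?_⟩
  · exact forall_of_closed (isOpen_locSm _) fun s hs => locSm_of_denseAt hG hP hq' (hg s hs).1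
  · exact forall_of_closed (isOpen_locSm _) fun s hs => locSm_of_denseAt hG hP' hq' (hg s hs).2

end Semilocal

end Groth.Agent.RedSub.H664.Assembly
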