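import Groth.Agent.RedSub.H664.Ad
import Groth.Agent.RedSub.H661.Dense
import Groth.Agent.Sga3B.DSPts

/-!
# Base change of sections and of conjugation; dominance on fibres
-/

set_option autoImplicit false
set_option linter.unusedSectionVars false

universe u

open CategoryTheory MonoidalCategory CartesianMonoidalCategory MonObj GrpObj AlgebraicGeometry Limits
open Groth.Agent.Sga3B Groth.Agent.Sga3B.Parab Groth.Agent.Sga3B.Parab.Dyn998
open Groth.Agent.RedSub.H661.Dense
open Groth.Agent.RedSub.H664.Comb Groth.Agent.RedSub.H664.Ad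

namespace Groth.Agent.RedSub.H664.BcSec

variable {S S' : Scheme.{u}} (f : S' ⟶ S) {G P Q : Over S} [GrpObj G]

/-- The base change of a section. -/
noncomputable def bcSec (g : 𝟙_ (Over S) ⟶ G) : 𝟙_ (Over S') ⟶ Red.bc f G :=
  Functor.LaxMonoidal.ε (Over.pullback f) ≫ (Over.pullback f).map g

lemma map_toUnit_comp (g : 𝟙_ (Over S) ⟶ G) (X : Over S) :
    (Over.pullback f).map (toUnit X ≫ g) =
      toUnit ((Over.pullback f).obj X) ≫ bcSec f g := by
  rw [bcSec, Functor.map_comp, ← Category.assoc]
  congr 1
  have h : toUnit ((Over.pullback f).obj X) ≫ Functor.LaxMonoidal.ε (Over.pullback f) ≫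
      Functor.OplaxMonoidal.η (Over.pullback f) =
      (Over.pullback f).map (toUnit X) ≫ Functor.OplaxMonoidal.η (Over.pullback f) :=
    toUnit_unique _ _
  rw [← Category.assoc, cancel_mono] at h
  exact h.symm

lemma map_mul (X : Over S) (x y : X ⟶ G) :
    (Over.pullback f).map (x * y) = ((Over.pullback f).map x * (Over.pullback f).map y :
      (Over.pullback f).obj X ⟶ Red.bc f G) := by
  exact Functor.map_mul (Over.pullback f) x y

lemma map_inv (X : Over S) (x : X ⟶ G) :
    (Over.pullback f).map x⁻¹ = (((Over.pullback f).map x)⁻¹ :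
      (Over.pullback f).obj X ⟶ Red.bc f G) := by
  exact Functor.map_inv' (Over.pullback f) x

lemma map_ad (g : 𝟙_ (Over S) ⟶ G) (X : Over S) (x : X ⟶ G) :
    (Over.pullback f).map (ad g x) = ad (bcSec f g) ((Over.pullback f).map x) := by
  rw [ad, ad, map_mul, map_mul, map_inv, map_toUnit_comp]

end Groth.Agent.RedSub.H664.BcSec
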