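import Groth.Agent.RedSub.H664.Comb

/-!
# Weight conditions and the Levi decomposition

* `exists_finset_wt'`: finitely many weights decide, for targets stable under addition;
* `Wt.levi`: the Levi component of a point for a cocharacter `lamN J ν` satisfies the same weight
  conditions for `J`;
* `levi_ptP`, `levi_ptU`, `levi_ptZ`: the same for the conditions `PtP`, `PtU`, `PtZ` of another
  cocharacter `lamN J κ`.
-/

set_option autoImplicit false
set_option linter.unusedSectionVars false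

universe u

open CategoryTheory MonoidalCategory CartesianMonoidalCategory MonObj GrpObj AlgebraicGeometry Limits
open scoped LaurentPolynomial Polynomial TensorProduct
open WithConv
open Groth.Agent.Books.AffBridge Groth.Agent.Books.DynBasic Groth.Agent.Books.DynLim
open Groth.Agent.Sga3B.Parab Groth.Agent.Sga3B.Parab.Chart998 Groth.Agent.Sga3B.RG
open Groth.Agent.Sga3B.Parab.OrbM156 Groth.Agent.Sga3B.Parab.Dyn998
open Groth.Agent.Sga3B.Parab.DynLevi998 Groth.Agent.Sga3B.Parab.DynInter998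
open Groth.Agent.Sga3B.Parab.Rep998 Groth.Agent.Sga3B.Parab.DynExist998
open Groth.Agent.RedSub.H664.Weights

namespace Groth.Agent.RedSub.H664.Calc1

variable {R : Type u} [CommRing R] {G : Over (Spec (CommRingCat.of R))} [GrpObj G]
variable {M : Type} [AddCommGroup M] (J : Red.DS (Spec (CommRingCat.of R)) M ⟶ G) [IsMonHom J]
variable {A : Type u} [CommRing A] [HopfAlgebra R A]
  (e : Red.bc (𝟙 (Spec (CommRingCat.of R))) G ≅ SpecOver R A) [IsMonHom e.hom]

/-- Only finitely many weights matter. -/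
theorem exists_finset_wt' [Algebra.FiniteType R A] : ∃ F : Finset M,
    ∀ (T₁ T₂ : Set M), (∀ x ∈ T₂, ∀ y ∈ T₂, x + y ∈ T₂) → (∀ m ∈ F, m ∈ T₁ → m ∈ T₂) →
      (0 ∈ T₁ → 0 ∈ T₂) →
      ∀ (X : Over (Spec (CommRingCat.of R))) (g : X ⟶ G), Wt J e T₁ g → Wt J e T₂ g := by
  classical
  obtain ⟨F, hF⟩ := exists_finset_wt J e
  refine ⟨F, fun T₁ T₂ hadd h h0 X g hg => ?_⟩
  let T₃ : AddSubmonoid M :=
    { carrier := T₂ ∪ {0}
      zero_mem' := Or.inr rfl
      add_mem' := by
        rintro a b (ha | ha) (hb | hb)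
        · exact Or.inl (hadd a ha b hb)
        · rw [Set.mem_singleton_iff] at hb
          rw [hb, add_zero]
          exact Or.inl ha
        · rw [Set.mem_singleton_iff] at ha
          rw [ha, zero_add]
          exact Or.inl hb
        · rw [Set.mem_singleton_iff] at ha hb
          rw [ha, hb, add_zero]
          exact Or.inr rfl }
  have h1 : Wt J e (T₃ : Set M) g := hF T₁ T₃ (fun m hm hm' => Or.inl (h m hm hm')) X g hg
  refine wtA_of_inter (T'' := T₂) ?_ h1 hg
  rintro m ⟨(hm | hm), hm'⟩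
  · exact hm
  · rw [Set.mem_singleton_iff] at hm
    rw [hm] at hm' ⊢
    exact h0 hm'

variable {J e}

/-- The Levi component of an affine point. -/
lemma levi_apply (lam : A →ₐc[R] R[T;T⁻¹]) {C : Type u} [CommRing C] [Algebra R C]
    {z u : WithConv (A →ₐ[R] C)} (hz : Centralizes lam z) (hu : u ∈ USub lam C) (a : A) :
    z.ofConv a = (z * u).ofConv (pr lam 0 a) := by
  obtain ⟨h', h0, hh2⟩ := hu
  have h1 : (tl R C).comp (mapPt (cp R C) z * h').ofConv =
      Dyn.conjOrbit R A lam C (z * u).ofConv := by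
    apply WithConv.toConv_injective
    rw [conjOrbit_eq']
    change mapPt (tl R C) (mapPt (cp R C) z * h') = _
    rw [map_mul, ← mapPt_comp (cp R C) (tl R C), tl_comp_cp, hh2, map_mul]
    rw [Centralizes] at hz
    rw [hz]
  have h2 := coeff_limit lam _ _ h1 a 0
  have h3 : mapPt (ev0 R C) (mapPt (cp R C) z * h') = z := by
    rw [map_mul, ← mapPt_comp (cp R C) (ev0 R C), ev0_comp_cp, mapPt_id,
      show mapPt (ev0 R C) h' = 1 from h0, _root_.mul_one]
  have h4 : (mapPt (ev0 R C) (mapPt (cp R C) z * h')).ofConv a =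
      ((mapPt (cp R C) z * h').ofConv a).coeff 0 := by
    rw [mapPt_apply, ev0_apply]
  rw [h3] at h4
  rw [h4, h2]
  rfl

/-- The Levi component satisfies the same weight conditions. -/
theorem _root_.Groth.Agent.RedSub.H664.Weights.Wt.levi {T : Set M} (ν : M →+ ℤ)
    {X : Over (Spec (CommRingCat.of R))} {z u : X ⟶ G}
    (hz : PtZ (lamN J ν) z) (hu : PtU (lamN J ν) u) (h : Wt J e T (z * u)) : Wt J e T z := by
  intro C _ _ c hc x z' hz' m hm a ha
  obtain ⟨u', hu'⟩ := (pt_bijective e hc).2 (x ≫ u)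
  have h1 : Centralizes (lamB (lamN J ν) e) (toConv z') := by
    rw [← orbConst_pt (lamN J ν) e hc, hz']
    exact hz C c x
  have h2 : toConv u' ∈ USub (lamB (lamN J ν) e) C := by
    rw [mem_USub]
    change Dyn.LimIsOne R A (lamB (lamN J ν) e) C u'
    rw [← limOne_pt (lamN J ν) e hc, hu']
    exact hu C c x
  have h3 : pt e hc (toConv z' * toConv u').ofConv = x ≫ (z * u) := by
    rw [pt_mul, MonObj.comp_mul]
    exact congrArg₂ _ hz' hu'
  have h4 := levi_apply (lamB (lamN J ν) e) h1 h2 a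
  change z' a = _ at h4
  rw [h4, pr_lamN J e hc ν ha]
  split_ifs with h5
  · exact h C c hc x _ h3 m hm a ha
  · rw [ConjGrade.counit_of_mem_gr (piB J e) ?_ ha, map_zero]
    rintro h6
    apply h5
    rw [h6, toAdd_one, map_zero]


lemma exists_chart1 [IsAffineHom G.hom] : ∃ (A : Type u) (_ : CommRing A) (_ : HopfAlgebra R A)
    (e : Red.bc (𝟙 (Spec (CommRingCat.of R))) G ≅ SpecOver R A), IsMonHom e.hom := by
  obtain ⟨A, i1, i2, e, he⟩ := exists_chart (G := G) (𝟙 (Spec (CommRingCat.of R)))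
  exact ⟨A, i1, i2, e, he⟩

section Pt

variable [IsAffineHom G.hom] (ν κ : M →+ ℤ) {X : Over (Spec (CommRingCat.of R))} {z u : X ⟶ G}

lemma levi_ptP (hz : PtZ (lamN J ν) z) (hu : PtU (lamN J ν) u) (h : PtP (lamN J κ) (z * u)) :
    PtP (lamN J κ) z ∧ PtP (lamN J κ) u := by
  obtain ⟨A, _, _, e, _⟩ := exists_chart1 (G := G)
  have h1 : PtP (lamN J κ) z := by
    rw [ptP_iff_wt J e] at h ⊢
    exact h.levi ν hz hu
  refine ⟨h1, ?_⟩
  have h2 : u = z⁻¹ * (z * u) := by group
  rw [h2]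
  exact h1.inv.mul h

lemma levi_ptU (hz : PtZ (lamN J ν) z) (hu : PtU (lamN J ν) u) (h : PtU (lamN J κ) (z * u)) :
    PtU (lamN J κ) z ∧ PtU (lamN J κ) u := by
  obtain ⟨A, _, _, e, _⟩ := exists_chart1 (G := G)
  have h1 : PtU (lamN J κ) z := by
    rw [ptU_iff_wt J e] at h ⊢
    exact h.levi ν hz hu
  refine ⟨h1, ?_⟩
  have h2 : u = z⁻¹ * (z * u) := by group
  rw [h2]
  exact h1.inv.mul h

lemma levi_ptZ (hz : PtZ (lamN J ν) z) (hu : PtU (lamN J ν) u) (h : PtZ (lamN J κ) (z * u)) :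
    PtZ (lamN J κ) z ∧ PtZ (lamN J κ) u := by
  obtain ⟨A, _, _, e, _⟩ := exists_chart1 (G := G)
  have h1 : PtZ (lamN J κ) z := by
    rw [ptZ_iff_wt J e] at h ⊢
    exact h.levi ν hz hu
  refine ⟨h1, ?_⟩
  have h2 : u = z⁻¹ * (z * u) := by group
  rw [h2]
  exact h1.inv.mul h

end Pt

end Groth.Agent.RedSub.H664.Calc1
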