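import Groth.Agent.RedSub.H664.Calc1

/-!
# Calculus of `P`, `U`, `Z` for combinations of two commuting cocharacters

`Kd` is one of the three kinds of conditions.  `Kd.imp`, `Kd.imp2` deduce conditions from
conditions on all weights, `Kd.exists_finset` from conditions on finitely many weights.
`exists_N` : for `N ≫ 0` one has `P(Nα + β) = (Z(α) ∩ P(β)) U(α)` etc.
-/

set_option autoImplicit false
set_option linter.unusedSectionVars false

universe u

open CategoryTheory MonoidalCategory CartesianMonoidalCategory MonObj GrpObj AlgebraicGeometry Limits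
open Groth.Agent.Books.AffBridge
open Groth.Agent.Sga3B.Parab Groth.Agent.Sga3B.Parab.Chart998 Groth.Agent.Sga3B.RG
open Groth.Agent.Sga3B.Parab.OrbM156 Groth.Agent.Sga3B.Parab.Dyn998
open Groth.Agent.Sga3B.Parab.DynLevi998 Groth.Agent.Sga3B.Parab.DynInter998
open Groth.Agent.Sga3B.Parab.Rep998 Groth.Agent.Sga3B.Parab.DynExist998
open Groth.Agent.RedSub.H664.Weights Groth.Agent.RedSub.H664.Comb Groth.Agent.RedSub.H664.Calc1

namespace Groth.Agent.RedSub.H664.Calc2

/-- The three kinds of conditions. -/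
inductive Kd | P | U | Z

/-- The condition on points. -/
def Kd.pt {S : Scheme.{u}} {G : Over S} [GrpObj G] (k : Kd) (lam : Red.Gm S ⟶ G) {X : Over S}
    (g : X ⟶ G) : Prop :=
  match k with
  | Kd.P => PtP lam g
  | Kd.U => PtU lam g
  | Kd.Z => PtZ lam g

/-- The condition on weights. -/
def Kd.cond (k : Kd) (n : ℤ) : Prop :=
  match k with
  | Kd.P => 0 ≤ n
  | Kd.U => 0 < n
  | Kd.Z => n = 0

lemma Kd.cond_add (k : Kd) {m n : ℤ} (hm : k.cond m) (hn : k.cond n) : k.cond (m + n) := by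
  cases k <;> simp only [Kd.cond] at * <;> omega

variable {R : Type u} [CommRing R] {G : Over (Spec (CommRingCat.of R))} [GrpObj G]
variable {M : Type} [AddCommGroup M] (J : Red.DS (Spec (CommRingCat.of R)) M ⟶ G) [IsMonHom J]

lemma Kd.pt_iff {A : Type u} [CommRing A] [HopfAlgebra R A]
    (e : Red.bc (𝟙 (Spec (CommRingCat.of R))) G ≅ SpecOver R A) [IsMonHom e.hom]
    (k : Kd) (ν : M →+ ℤ) {X : Over (Spec (CommRingCat.of R))} (g : X ⟶ G) :
    k.pt (lamN J ν) g ↔ Wt J e {m | k.cond (ν m)} g := by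
  cases k
  · exact ptP_iff_wt J e ν g
  · exact ptU_iff_wt J e ν g
  · exact ptZ_iff_wt J e ν g

section Imp

variable [IsAffineHom G.hom]

lemma Kd.imp (k₁ k₂ : Kd) {ν₁ ν₂ : M →+ ℤ} (H : ∀ m, k₁.cond (ν₁ m) → k₂.cond (ν₂ m))
    {X : Over (Spec (CommRingCat.of R))} {g : X ⟶ G} (h : k₁.pt (lamN J ν₁) g) :
    k₂.pt (lamN J ν₂) g := by
  obtain ⟨A, _, _, e, _⟩ := exists_chart1 (G := G)
  rw [Kd.pt_iff J e] at h ⊢
  exact h.mono H

lemma Kd.imp2 (k₁ k₂ k₃ : Kd) {ν₁ ν₂ ν₃ : M →+ ℤ}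
    (H : ∀ m, k₁.cond (ν₁ m) → k₂.cond (ν₂ m) → k₃.cond (ν₃ m))
    {X : Over (Spec (CommRingCat.of R))} {g : X ⟶ G} (h : k₁.pt (lamN J ν₁) g)
    (h' : k₂.pt (lamN J ν₂) g) : k₃.pt (lamN J ν₃) g := by
  obtain ⟨A, _, _, e, _⟩ := exists_chart1 (G := G)
  rw [Kd.pt_iff J e] at h h' ⊢
  exact wtA_of_inter (fun m hm => H m hm.1 hm.2) h h'

/-- Only finitely many weights matter. -/
theorem Kd.exists_finset [LocallyOfFiniteType G.hom] : ∃ F : Finset M,
    ∀ (k₁ k₂ : Kd) (ν₁ ν₂ : M →+ ℤ), (∀ m ∈ F, k₁.cond (ν₁ m) → k₂.cond (ν₂ m)) →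
      (k₁.cond 0 → k₂.cond 0) →
      ∀ (X : Over (Spec (CommRingCat.of R))) (g : X ⟶ G),
        k₁.pt (lamN J ν₁) g → k₂.pt (lamN J ν₂) g := by
  obtain ⟨A, _, _, e, he⟩ := exists_chart1 (G := G)
  have hft : Algebra.FiniteType R A := by
    have h0 : LocallyOfFiniteType (Spec.map (CommRingCat.ofHom (algebraMap R A))) ↔ _ :=
      HasRingHomProperty.Spec_iff (P := @LocallyOfFiniteType)
    refine (h0.trans RingHom.finiteType_algebraMap).1 ?_
    change LocallyOfFiniteType (SpecOver R A).hom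
    have h1 : LocallyOfFiniteType (Red.bc (𝟙 (Spec (CommRingCat.of R))) G).hom := by
      have : (Red.bc (𝟙 (Spec (CommRingCat.of R))) G).hom =
        pullback.snd G.hom (𝟙 (Spec (CommRingCat.of R))) := rfl
      rw [this]
      infer_instance
    have h2 : (SpecOver R A).hom = e.inv.left ≫ (Red.bc (𝟙 (Spec (CommRingCat.of R))) G).hom :=
      (Over.w e.inv).symm
    rw [h2]
    infer_instance
  obtain ⟨F, hF⟩ := exists_finset_wt' J e
  refine ⟨F, fun k₁ k₂ ν₁ ν₂ H H0 X g hg => ?_⟩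
  rw [Kd.pt_iff J e] at hg ⊢
  refine hF _ _ (fun x hx y hy => ?_) H (fun h0 => ?_) X g hg
  · change k₂.cond (ν₂ (x + y))
    rw [map_add]
    exact k₂.cond_add hx hy
  · change k₂.cond (ν₂ 0)
    rw [map_zero]
    apply H0
    have h0' : k₁.cond (ν₁ 0) := h0
    rwa [map_zero] at h0'

end Imp

end Groth.Agent.RedSub.H664.Calc2
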