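import Groth.Agent.RedSub.H664.Calc2

/-!
# Combinations of two commuting cocharacters `α`, `β`

* `pt_cmb_iff` : on `Z(α)` the conditions for `aα + bβ` (`b > 0`) are those for `β`;
* `exists_N` : for `N ≫ 0`: `P(Nα + β) = (Z(α) ∩ P(β)) U(α)`, `U(Nα + β) = (Z(α) ∩ U(β)) U(α)`,
  `Z(Nα + β) = Z(α) ∩ Z(β)`;
* `first_wall` : if `P(α) ⊄ P(β)` and no `P(aα + bβ)` is strictly smaller than `P(α)`, some
  `P(aα + bβ)` with `a, b > 0` is strictly larger than `P(α)`.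
-/

set_option autoImplicit false
set_option linter.unusedSectionVars false

universe u

open CategoryTheory MonoidalCategory CartesianMonoidalCategory MonObj GrpObj AlgebraicGeometry Limits
open Groth.Agent.Books.AffBridge
open Groth.Agent.Sga3B.Parab Groth.Agent.Sga3B.Parab.Chart998 Groth.Agent.Sga3B.RG
open Groth.Agent.Sga3B.Parab.OrbM156 Groth.Agent.Sga3B.Parab.Dyn998
open Groth.Agent.Sga3B.Parab.DynLevi998 Groth.Agent.Sga3B.Parab.DynInter998
open Groth.Agent.Sga3B.Parab.Rep998 Groth.Agent.Sga3B.Parab.DynExist998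
open Groth.Agent.RedSub.H664.Weights Groth.Agent.RedSub.H664.Comb Groth.Agent.RedSub.H664.Calc1
open Groth.Agent.RedSub.H664.Calc2

namespace Groth.Agent.RedSub.H664.Calc3

variable {R : Type u} [CommRing R] {G : Over (Spec (CommRingCat.of R))} [GrpObj G]

/-- `P(α) ⊆ P(β)` -/
def Le (α β : Red.Gm (Spec (CommRingCat.of R)) ⟶ G) : Prop :=
  ∀ (X : Over (Spec (CommRingCat.of R))) (g : X ⟶ G), PtP α g → PtP β g

lemma Le.refl (α : Red.Gm (Spec (CommRingCat.of R)) ⟶ G) : Le α α := fun _ _ h => h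

lemma Le.trans {α β ξ : Red.Gm (Spec (CommRingCat.of R)) ⟶ G} (h : Le α β) (h' : Le β ξ) :
    Le α ξ := fun X g hg => h' X g (h X g hg)

variable [IsAffineHom G.hom]
variable {α β : Red.Gm (Spec (CommRingCat.of R)) ⟶ G} [IsMonHom α] [IsMonHom β]

section Levi

variable (h : Comm α β) (a b c d : ℤ) {X : Over (Spec (CommRingCat.of R))} {z u : X ⟶ G}
include h

lemma levi_cmb (k : Kd) (hz : PtZ (cmb a b α β) z) (hu : PtU (cmb a b α β) u)
    (hg : k.pt (cmb c d α β) (z * u)) : k.pt (cmb c d α β) z ∧ k.pt (cmb c d α β) u := by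
  have := isMonHom_J2 h
  cases k
  · exact levi_ptP (J := J2 α β) (lf a b) (lf c d) hz hu hg
  · exact levi_ptU (J := J2 α β) (lf a b) (lf c d) hz hu hg
  · exact levi_ptZ (J := J2 α β) (lf a b) (lf c d) hz hu hg

omit a b in
/-- the Levi components for `α` of a point of `X(β)` are in `X(β)` -/
lemma levi_pt (k : Kd) (hz : PtZ α z) (hu : PtU α u) (hg : k.pt β (z * u)) :
    k.pt β z ∧ k.pt β u := by
  have h1 := levi_cmb h 1 0 0 1 (z := z) (u := u) k
  rw [cmb_one_zero, cmb_zero_one] at h1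
  exact h1 hz hu hg

end Levi

section Two

variable (h : Comm α β) {a b : ℤ} {X : Over (Spec (CommRingCat.of R))} {g : X ⟶ G}
include h

lemma imp2 (k₁ k₂ k₃ : Kd) {a₁ b₁ a₂ b₂ a₃ b₃ : ℤ}
    (H : ∀ i j : ℤ, k₁.cond (a₁ * i + b₁ * j) → k₂.cond (a₂ * i + b₂ * j) →
      k₃.cond (a₃ * i + b₃ * j)) (h₁ : k₁.pt (cmb a₁ b₁ α β) g) (h₂ : k₂.pt (cmb a₂ b₂ α β) g) :
    k₃.pt (cmb a₃ b₃ α β) g := by
  have := isMonHom_J2 h
  refine Kd.imp2 (J2 α β) k₁ k₂ k₃ (fun m => ?_) h₁ h₂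
  rw [lf_apply, lf_apply, lf_apply]
  exact H m.1 m.2

lemma imp (k₁ k₂ : Kd) {a₁ b₁ a₂ b₂ : ℤ}
    (H : ∀ i j : ℤ, k₁.cond (a₁ * i + b₁ * j) → k₂.cond (a₂ * i + b₂ * j))
    (h₁ : k₁.pt (cmb a₁ b₁ α β) g) : k₂.pt (cmb a₂ b₂ α β) g := by
  have := isMonHom_J2 h
  refine Kd.imp (J2 α β) k₁ k₂ (fun m => ?_) h₁
  rw [lf_apply, lf_apply]
  exact H m.1 m.2

/-- On `Z(α)` the conditions for `aα + bβ` are those for `β`. -/
lemma pt_cmb_iff (k : Kd) (hb : 0 < b) (hz : PtZ α g) : k.pt (cmb a b α β) g ↔ k.pt β g := by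
  have h1 : Kd.Z.pt (cmb 1 0 α β) g := by rw [cmb_one_zero]; exact hz
  constructor
  · intro h2
    have h3 := imp2 h Kd.Z k k (a₃ := 0) (b₃ := 1) (fun i j hi hj => ?_) h1 h2
    · rwa [cmb_zero_one] at h3
    · simp only [Kd.cond, _root_.one_mul, zero_mul, add_zero, zero_add] at hi ⊢
      subst hi
      cases k <;> simp only [Kd.cond, mul_zero, zero_add] at hj ⊢
      · exact nonneg_of_mul_nonneg_right hj hb
      · exact (mul_pos_iff_of_pos_left hb).1 hj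
      · exact (mul_eq_zero.1 hj).resolve_left hb.ne'
  · intro h2
    have h2' : k.pt (cmb 0 1 α β) g := by rw [cmb_zero_one]; exact h2
    refine imp2 h Kd.Z k k (fun i j hi hj => ?_) h1 h2'
    simp only [Kd.cond, _root_.one_mul, zero_mul, add_zero, zero_add] at hi hj ⊢
    subst hi
    cases k <;> simp only [Kd.cond, mul_zero, zero_add] at hj ⊢
    · exact mul_nonneg hb.le hj
    · exact mul_pos hb hj
    · rw [hj, mul_zero]

/-- On `Z(aα - bβ)` the conditions for `α` and `β` agree. -/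
lemma pt_iff_of_ptZ (k : Kd) (ha : 0 < a) (hb : 0 < b) (hz : PtZ (cmb a (-b) α β) g) :
    k.pt α g ↔ k.pt β g := by
  have hz' : Kd.Z.pt (cmb a (-b) α β) g := hz
  have key : ∀ i j : ℤ, a * i + (-b) * j = 0 → (k.cond i ↔ k.cond j) := by
    intro i j hij
    have hij' : a * i = b * j := by linarith
    cases k <;> simp only [Kd.cond]
    · rw [← mul_nonneg_iff_of_pos_left ha, hij', mul_nonneg_iff_of_pos_left hb]
    · rw [← mul_pos_iff_of_pos_left ha, hij', mul_pos_iff_of_pos_left hb]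
    · constructor
      · rintro rfl
        rw [mul_zero] at hij'
        exact (mul_eq_zero.1 hij'.symm).resolve_left hb.ne'
      · rintro rfl
        rw [mul_zero] at hij'
        exact (mul_eq_zero.1 hij').resolve_left ha.ne'
  constructor
  · intro h1
    have h1' : k.pt (cmb 1 0 α β) g := by rw [cmb_one_zero]; exact h1
    have h3 := imp2 h Kd.Z k k (a₃ := 0) (b₃ := 1) (fun i j hi hj => ?_) hz' h1'
    · rwa [cmb_zero_one] at h3
    · simp only [_root_.one_mul, zero_mul, add_zero, zero_add] at hj ⊢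
      exact (key i j hi).1 hj
  · intro h1
    have h1' : k.pt (cmb 0 1 α β) g := by rw [cmb_zero_one]; exact h1
    have h3 := imp2 h Kd.Z k k (a₃ := 1) (b₃ := 0) (fun i j hi hj => ?_) hz' h1'
    · rwa [cmb_one_zero] at h3
    · simp only [_root_.one_mul, zero_mul, add_zero, zero_add] at hj ⊢
      exact (key i j hi).2 hj

end Two

section Fin

variable [LocallyOfFiniteType G.hom] (h : Comm α β)
include h

lemma exists_finset : ∃ F : Finset (ℤ × ℤ), ∀ (k₁ k₂ : Kd) (a₁ b₁ a₂ b₂ : ℤ),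
    (∀ m ∈ F, k₁.cond (a₁ * m.1 + b₁ * m.2) → k₂.cond (a₂ * m.1 + b₂ * m.2)) →
      (k₁.cond 0 → k₂.cond 0) →
      ∀ (X : Over (Spec (CommRingCat.of R))) (g : X ⟶ G),
        k₁.pt (cmb a₁ b₁ α β) g → k₂.pt (cmb a₂ b₂ α β) g := by
  have := isMonHom_J2 h
  obtain ⟨F, hF⟩ := Kd.exists_finset (J2 α β)
  refine ⟨F, fun k₁ k₂ a₁ b₁ a₂ b₂ H H0 X g hg => ?_⟩
  refine hF k₁ k₂ (lf a₁ b₁) (lf a₂ b₂) (fun m hm => ?_) H0 X g hg
  rw [lf_apply, lf_apply]
  exact H m hm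

/-- For `N ≫ 0`: `P(Nα + β) = (Z(α) ∩ P(β)) U(α)`, etc. -/
theorem exists_N : ∃ N₀ : ℤ, 0 < N₀ ∧ ∀ N ≥ N₀, ∀ (X : Over (Spec (CommRingCat.of R))) (g : X ⟶ G),
    (PtP (cmb N 1 α β) g ↔ ∃ z u : X ⟶ G, z * u = g ∧ PtZ α z ∧ PtP β z ∧ PtU α u) ∧
    (PtU (cmb N 1 α β) g ↔ ∃ z u : X ⟶ G, z * u = g ∧ PtZ α z ∧ PtU β z ∧ PtU α u) ∧
    (PtZ (cmb N 1 α β) g ↔ PtZ α g ∧ PtZ β g) := by
  obtain ⟨F, hF⟩ := exists_finset h
  obtain ⟨N₁, hN₁⟩ : ∃ N₁ : ℤ, ∀ m ∈ F, |m.2| ≤ N₁ := by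
    refine ⟨∑ m ∈ F, |m.2|, fun m hm => ?_⟩
    exact Finset.single_le_sum (f := fun m : ℤ × ℤ => |m.2|) (fun m _ => abs_nonneg m.2) hm
  refine ⟨|N₁| + 1, by positivity, fun N hN X g => ?_⟩
  have hN0 : 0 < N := by have := abs_nonneg N₁; omega
  have hlt : ∀ m ∈ F, |m.2| < N := fun m hm => by
    have h1 := hN₁ m hm
    have h2 := le_abs_self N₁
    omega
  -- signs
  have hpos : ∀ m ∈ F, 0 < m.1 → 0 < N * m.1 + 1 * m.2 := by
    intro m hm h1
    have h2 := hlt m hm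
    have h3 := neg_abs_le m.2
    nlinarith
  have hneg : ∀ m ∈ F, m.1 < 0 → N * m.1 + 1 * m.2 < 0 := by
    intro m hm h1
    have h2 := hlt m hm
    have h3 := le_abs_self m.2
    nlinarith
  have hUP : ∀ (X : Over (Spec (CommRingCat.of R))) (g : X ⟶ G), PtU α g →
      PtU (cmb N 1 α β) g := by
    intro X g hg
    refine hF Kd.U Kd.U 1 0 N 1 (fun m hm hm' => ?_) (fun h0 => h0) X g ?_
    · simp only [Kd.cond, _root_.one_mul, zero_mul, add_zero] at hm' ⊢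
      simpa using hpos m hm hm'
    · rw [cmb_one_zero]
      exact hg
  have hP : ∀ (X : Over (Spec (CommRingCat.of R))) (g : X ⟶ G), PtP (cmb N 1 α β) g →
      PtP α g := by
    intro X g hg
    have := hF Kd.P Kd.P N 1 1 0 (fun m hm hm' => ?_) (fun h0 => h0) X g hg
    · rwa [cmb_one_zero] at this
    · simp only [Kd.cond, _root_.one_mul, zero_mul, add_zero] at hm' ⊢
      by_contra h1
      have := hneg m hm (not_le.1 h1)
      simp only [_root_.one_mul] at this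
      omega
  have hZ : ∀ (X : Over (Spec (CommRingCat.of R))) (g : X ⟶ G), PtZ (cmb N 1 α β) g →
      PtZ α g := by
    intro X g hg
    have := hF Kd.Z Kd.Z N 1 1 0 (fun m hm hm' => ?_) (fun h0 => h0) X g hg
    · rwa [cmb_one_zero] at this
    · simp only [Kd.cond, _root_.one_mul, zero_mul, add_zero] at hm' ⊢
      rcases lt_trichotomy m.1 0 with h1 | h1 | h1
      · have := hneg m hm h1
        simp only [_root_.one_mul] at this
        omega
      · exact h1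
      · have := hpos m hm h1
        simp only [_root_.one_mul] at this
        omega
  refine ⟨⟨fun hg => ?_, ?_⟩, ⟨fun hg => ?_, ?_⟩, ⟨fun hg => ?_, ?_⟩⟩
  · obtain ⟨z, u, hz, hu, hzu⟩ := PtP.exists_levi (hP X g hg)
    have h1 := levi_cmb h 1 0 N 1 (z := z) (u := u) Kd.P (by rwa [cmb_one_zero])
      (by rwa [cmb_one_zero]) (by rw [hzu]; exact hg)
    exact ⟨z, u, hzu, hz, (pt_cmb_iff h Kd.P one_pos hz).1 h1.1, hu⟩
  · rintro ⟨z, u, rfl, hz, hz', hu⟩
    exact PtP.mul ((pt_cmb_iff h Kd.P one_pos hz).2 hz') (hUP X u hu).ptP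
  · obtain ⟨z, u, hz, hu, hzu⟩ := PtP.exists_levi (hP X g hg.ptP)
    have h1 := levi_cmb h 1 0 N 1 (z := z) (u := u) Kd.U (by rwa [cmb_one_zero])
      (by rwa [cmb_one_zero]) (by rw [hzu]; exact hg)
    exact ⟨z, u, hzu, hz, (pt_cmb_iff h Kd.U one_pos hz).1 h1.1, hu⟩
  · rintro ⟨z, u, rfl, hz, hz', hu⟩
    exact PtU.mul ((pt_cmb_iff h Kd.U one_pos hz).2 hz') (hUP X u hu)
  · have h1 := hZ X g hg
    exact ⟨h1, (pt_cmb_iff h Kd.Z one_pos h1).1 hg⟩
  · rintro ⟨h1, h2⟩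
    exact (pt_cmb_iff h Kd.Z one_pos h1).2 h2

end Fin

end Groth.Agent.RedSub.H664.Calc3
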