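import Groth.Agent.RedSub.H664.Weights
import Groth.Agent.Sga3B.Par.ConjDyn895

/-!
# Commuting cocharacters

`Comm α β`: the cocharacters `α`, `β` of `G` commute.  `J2 α β : D(ℤ × ℤ) ⟶ G` the homomorphism
with components `α`, `β`, and `cmb a b α β` the cocharacter `a α + b β`.
-/

set_option autoImplicit false
set_option linter.unusedSectionVars false

universe u

open CategoryTheory MonoidalCategory CartesianMonoidalCategory MonObj GrpObj AlgebraicGeometry Limits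
open scoped LaurentPolynomial Polynomial TensorProduct
open WithConv
open Groth.Agent.Books.AffBridge Groth.Agent.Books.DynBasic Groth.Agent.Books.DynLim
open Groth.Agent.Sga3B Groth.Agent.Sga3B.Parab Groth.Agent.Sga3B.Parab.Chart998
open Groth.Agent.Sga3B.Parab.OrbM156 Groth.Agent.Sga3B.Parab.Dyn998
open Groth.Agent.Sga3B.Parab.DynLevi998 Groth.Agent.Sga3B.Parab.DynInter998

namespace Groth.Agent.RedSub.H664.Comb

variable {S : Scheme.{u}} {G : Over S} [GrpObj G]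

section DS

variable {M N P : Type} [AddCommGroup M] [AddCommGroup N] [AddCommGroup P]

lemma DSmap_comp (φ : M →+ N) (ψ : N →+ P) :
    Red.DSmap S (ψ.comp φ) = Red.DSmap S ψ ≫ Red.DSmap S φ := by
  have h : ∀ (T : Over S) (x : T ⟶ Red.DS S P), x ≫ Red.DSmap S (ψ.comp φ) =
      x ≫ Red.DSmap S ψ ≫ Red.DSmap S φ := by
    intro T x
    rw [← DSPts.dsEquiv_dsChar (x ≫ Red.DSmap S (ψ.comp φ)),
      ← DSPts.dsEquiv_dsChar (x ≫ Red.DSmap S ψ ≫ Red.DSmap S φ), ← Category.assoc,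
      DSPts.dsChar_DSmap, DSPts.dsChar_DSmap, DSPts.dsChar_DSmap]
    rfl
  have := h _ (𝟙 _)
  rwa [Category.id_comp, Category.id_comp] at this

lemma DSmap_id : Red.DSmap S (AddMonoidHom.id M) = 𝟙 _ := by
  have h : ∀ (T : Over S) (x : T ⟶ Red.DS S M), x ≫ Red.DSmap S (AddMonoidHom.id M) = x := by
    intro T x
    rw [← DSPts.dsEquiv_dsChar (x ≫ Red.DSmap S (AddMonoidHom.id M)), DSPts.dsChar_DSmap]
    exact DSPts.dsEquiv_dsChar x
  have := h _ (𝟙 _)
  rwa [Category.id_comp] at this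

lemma DSmap_zero : Red.DSmap S (0 : M →+ N) = 1 := by
  have h : ∀ (T : Over S) (x : T ⟶ Red.DS S N), x ≫ Red.DSmap S (0 : M →+ N) = 1 := by
    intro T x
    rw [← DSPts.dsEquiv_dsChar (x ≫ Red.DSmap S (0 : M →+ N)), DSPts.dsChar_DSmap]
    rw [← map_one (DSPts.dsEquiv T M)]
    congr 1
    refine MonoidHom.ext fun m => ?_
    exact map_one (DSPts.dsChar x)
  have := h _ (𝟙 _)
  rwa [Category.id_comp] at this

lemma DSmap_add (φ ψ : M →+ N) :
    Red.DSmap S (φ + ψ) = Red.DSmap S φ * Red.DSmap S ψ := by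
  have h : ∀ (T : Over S) (x : T ⟶ Red.DS S N), x ≫ Red.DSmap S (φ + ψ) =
      (x ≫ Red.DSmap S φ) * (x ≫ Red.DSmap S ψ) := by
    intro T x
    rw [← DSPts.dsEquiv_dsChar (x ≫ Red.DSmap S (φ + ψ)),
      ← DSPts.dsEquiv_dsChar (x ≫ Red.DSmap S φ), ← DSPts.dsEquiv_dsChar (x ≫ Red.DSmap S ψ),
      ← map_mul, DSPts.dsChar_DSmap, DSPts.dsChar_DSmap, DSPts.dsChar_DSmap]
    congr 1
    refine MonoidHom.ext fun m => ?_
    exact map_mul (DSPts.dsChar x) _ _
  have := h _ (𝟙 _)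
  simpa using this

end DS

/-- The cocharacters `α` and `β` commute. -/
def Comm (α β : Red.Gm S ⟶ G) : Prop :=
  ∀ (X : Over S) (s t : X ⟶ Red.Gm S), (s ≫ α) * (t ≫ β) = (t ≫ β) * (s ≫ α)

variable {α β γ : Red.Gm S ⟶ G}

lemma Comm.symm (h : Comm α β) : Comm β α := fun X s t => (h X t s).symm

lemma comm_iff_ptZ : Comm α β ↔ PtZ α β := by
  rw [DynExist998.ptZ_iff_centralizes]
  constructor
  · intro h X' x t
    exact (h X' t x).symm
  · intro h X s t
    exact (h X t s).symm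

lemma comm_self (α : Red.Gm S ⟶ G) [IsMonHom α] : Comm α α := by
  intro X s t
  rw [← MonObj.mul_comp s t α, ← MonObj.mul_comp t s α]
  congr 1
  rw [← DSPts.dsEquiv_dsChar (s * t), ← DSPts.dsEquiv_dsChar (t * s), DSPts.dsChar_mul,
    DSPts.dsChar_mul, mul_comm]

/-- The homomorphism `D(ℤ × ℤ) ⟶ G` with components `α`, `β`. -/
noncomputable def J2 (α β : Red.Gm S ⟶ G) : Red.DS S (ℤ × ℤ) ⟶ G :=
  (Red.DSmap S (AddMonoidHom.inl ℤ ℤ) ≫ α) * (Red.DSmap S (AddMonoidHom.inr ℤ ℤ) ≫ β)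

lemma isMonHom_J2 [IsMonHom α] [IsMonHom β] (h : Comm α β) : IsMonHom (J2 α β) := by
  have h1 := isMonHom_DSmap (S := S) (AddMonoidHom.inl ℤ ℤ)
  have h2 := isMonHom_DSmap (S := S) (AddMonoidHom.inr ℤ ℤ)
  apply Pts.isMonHom_of_points
  intro X x y
  rw [J2, MonObj.comp_mul, MonObj.comp_mul, MonObj.comp_mul]
  simp only [← Category.assoc]
  rw [MonObj.mul_comp x y (Red.DSmap S (AddMonoidHom.inl ℤ ℤ)),
    MonObj.mul_comp x y (Red.DSmap S (AddMonoidHom.inr ℤ ℤ)), MonObj.mul_comp _ _ α,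
    MonObj.mul_comp _ _ β, _root_.mul_assoc, _root_.mul_assoc]
  congr 1
  rw [← _root_.mul_assoc, ← _root_.mul_assoc]
  congr 1
  exact h _ _ _

/-- The linear form `(i, j) ↦ a i + b j`. -/
def lf (a b : ℤ) : ℤ × ℤ →+ ℤ :=
  a • AddMonoidHom.fst ℤ ℤ + b • AddMonoidHom.snd ℤ ℤ

@[simp] lemma lf_apply (a b : ℤ) (m : ℤ × ℤ) : lf a b m = a * m.1 + b * m.2 := by
  simp [lf]

/-- The cocharacter `a α + b β`. -/
noncomputable def cmb (a b : ℤ) (α β : Red.Gm S ⟶ G) : Red.Gm S ⟶ G := lamN (J2 α β) (lf a b)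

lemma isMonHom_cmb [IsMonHom α] [IsMonHom β] (h : Comm α β) (a b : ℤ) :
    IsMonHom (cmb a b α β) := by
  have := isMonHom_J2 h
  unfold cmb
  infer_instance

/-- multiplication by `a` on `ℤ` -/
def mlt (a : ℤ) : ℤ →+ ℤ := a • AddMonoidHom.id ℤ

/-- `a α` -/
noncomputable def sm (a : ℤ) (α : Red.Gm S ⟶ G) : Red.Gm S ⟶ G := Red.DSmap S (mlt a) ≫ α

lemma cmb_eq (a b : ℤ) : cmb a b α β = sm a α * sm b β := by
  rw [cmb, lamN, J2, MonObj.comp_mul, ← Category.assoc, ← Category.assoc, ← DSmap_comp,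
    ← DSmap_comp, sm, sm]
  have h1 : (lf a b).comp (AddMonoidHom.inl ℤ ℤ) = mlt a := by
    ext; simp [mlt]
  have h2 : (lf a b).comp (AddMonoidHom.inr ℤ ℤ) = mlt b := by
    ext; simp [mlt]
  rw [h1, h2]

lemma sm_one (α : Red.Gm S ⟶ G) : sm 1 α = α := by
  have h : mlt 1 = AddMonoidHom.id ℤ := by ext; simp [mlt]
  rw [sm, h, DSmap_id, Category.id_comp]

lemma sm_zero (α : Red.Gm S ⟶ G) [IsMonHom α] : sm 0 α = 1 := by
  have h : mlt 0 = 0 := by ext; simp [mlt]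
  rw [sm, h, DSmap_zero, MonObj.one_comp]

lemma sm_neg_one (α : Red.Gm S ⟶ G) : sm (-1) α = negLam α := by
  have h : mlt (-1) = -(AddMonoidHom.id ℤ) := by ext; simp [mlt]
  rw [sm, h, negLam]

lemma cmb_one_zero [IsMonHom β] : cmb 1 0 α β = α := by
  rw [cmb_eq, sm_one, sm_zero, _root_.mul_one]

lemma cmb_zero_one [IsMonHom α] : cmb 0 1 α β = β := by
  rw [cmb_eq, sm_one, sm_zero, _root_.one_mul]

lemma cmb_neg_zero [IsMonHom β] : cmb (-1) 0 α β = negLam α := by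
  rw [cmb_eq, sm_neg_one, sm_zero, _root_.mul_one]

lemma cmb_zero_neg [IsMonHom α] : cmb 0 (-1) α β = negLam β := by
  rw [cmb_eq, sm_neg_one, sm_zero, _root_.one_mul]

/-- everything commutes with `β` if it is of the form `t ≫ α` -/
lemma Comm.sm_left (h : Comm α β) (a : ℤ) : Comm (sm a α) β := by
  intro X s t
  rw [sm, ← Category.assoc]
  exact h X _ t

lemma Comm.mul_left (h : Comm α γ) (h' : Comm β γ) : Comm (α * β) γ := by
  intro X s t
  rw [MonObj.comp_mul, _root_.mul_assoc, h' X s t, ← _root_.mul_assoc, h X s t, _root_.mul_assoc]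

lemma Comm.cmb_left (h : Comm α γ) (h' : Comm β γ) (a b : ℤ) : Comm (cmb a b α β) γ := by
  rw [cmb_eq]
  exact (h.sm_left a).mul_left (h'.sm_left b)

lemma Comm.neg_left (h : Comm α β) : Comm (negLam α) β := by
  rw [← sm_neg_one]
  exact h.sm_left _

lemma Comm.neg_right (h : Comm α β) : Comm α (negLam β) := h.symm.neg_left.symm

lemma comm_cmb_left [IsMonHom α] [IsMonHom β] (h : Comm α β) (a b : ℤ) :
    Comm α (cmb a b α β) := ((comm_self α).cmb_left h.symm a b).symm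

lemma comm_cmb_right [IsMonHom α] [IsMonHom β] (h : Comm α β) (a b : ℤ) :
    Comm β (cmb a b α β) := (h.cmb_left (comm_self β) a b).symm

lemma negLam_cmb (a b : ℤ) [IsMonHom α] [IsMonHom β] (h : Comm α β) :
    negLam (cmb a b α β) = cmb (-a) (-b) α β := by
  rw [cmb, cmb, negLam, lamN, lamN, ← Category.assoc, ← DSmap_comp]
  congr 2
  ext <;> simp [add_comm]

end Groth.Agent.RedSub.H664.Comb
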