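import Groth.Agent.RedSub.H664.DenseK
import Groth.Agent.RedSub.H648.BorBc
import Groth.Agent.Sga3B.Parab.UAff

/-!
# Infinite fields: reduction to the algebraic closure by density
-/

set_option autoImplicit false
set_option linter.unusedSectionVars false

universe u

open CategoryTheory MonoidalCategory CartesianMonoidalCategory MonObj GrpObj AlgebraicGeometry Limits
open Groth.Agent.Sga3B Groth.Agent.Sga3B.Parab Groth.Agent.Sga3B.Parab.Dyn998
open Groth.Agent.Sga3B.Parab.DynLevi998 Groth.Agent.Sga3B.Parab.DynInter998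
open Groth.Agent.Sga3B.Parab.DynExist998 Groth.Agent.Sga3B.Parab.SecThrough
open Groth.Agent.RedSub.H661 Groth.Agent.RedSub.H661.Dense Groth.Agent.RedSub.H661.Borels
open Groth.Agent.RedSub.H664.Comb Groth.Agent.RedSub.H664.Calc2 Groth.Agent.RedSub.H664.Calc3
open Groth.Agent.RedSub.H664.Ad Groth.Agent.RedSub.H664.RedFacts Groth.Agent.RedSub.H664.Min
open Groth.Agent.RedSub.H664.LeviSub Groth.Agent.RedSub.H664.Transp Groth.Agent.RedSub.H664.SecT
open Groth.Agent.RedSub.H664.BcSec Groth.Agent.RedSub.H664.DenseK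

namespace Groth.Agent.RedSub.H664.DenseInf

section Any

variable {S T : Scheme.{u}} {G P Q : Over S} [GrpObj G] [GrpObj P] [GrpObj Q]

theorem locT_of_denseT (hG : Red.IsReductive G) {p : P ⟶ G} {q : Q ⟶ G} (hp : Red.IsParabolic p)
    (hq : Red.IsParabolic q) {t : T ⟶ S} {τ : Over.mk t ⟶ G} {x : T} (h : DenseT p q t τ x) :
    LocT p q t τ x :=
  locSm_of_denseAt (RedBcAny636.isReductive_bc t hG) (H648.BorBc.isParabolic_bc t hG hp)
    (isParabolic_ad (H648.BorBc.isParabolic_bc t hG hq) _) h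

/-- smoothness at all points implies dominance at all points -/
theorem denseAt_of_locSm (hG : Red.IsReductive G) {p : P ⟶ G} {q : Q ⟶ G} [IsMonHom p]
    [IsMonHom q] (h : ∀ s : S, LocSm ((p ⊗ₘ q) ≫ μ[G]) s) (s : S) : DenseAt p q s := by
  have h1 : Smooth ((p ⊗ₘ q) ≫ μ[G]).left := smooth_of_locSm h
  exact H661.Main.denseAt_of_isOpenMap hG ((p ⊗ₘ q) ≫ μ[G]).left.isOpenMap s

end Any

section Field

variable {k : Type u} [Field k] {G : Over (Spec (CommRingCat.of k))} [GrpObj G]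
  {P₁ P₂ Q : Over (Spec (CommRingCat.of k))} [GrpObj P₁] [GrpObj P₂] [GrpObj Q]

/-- **Infinite fields.** -/
theorem exists_dense_inf [Infinite k] (K : Type u) [Field K] [IsAlgClosed K] [Algebra k K]
    (hG : Red.IsReductive G) (h5 : D5All K)
    (mu lam₁ lam₂ : Red.Gm (Spec (CommRingCat.of k)) ⟶ G) [IsMonHom mu] [IsMonHom lam₁]
    [IsMonHom lam₂] {p₁ : P₁ ⟶ G} {p₂ : P₂ ⟶ G} {q : Q ⟶ G} (h₁ : IsDynP lam₁ p₁)
    (h₂ : IsDynP lam₂ p₂) (hq : IsDynP mu q) (hp₁ : Red.IsParabolic p₁) (hp₂ : Red.IsParabolic p₂)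
    (hqp : Red.IsParabolic q) :
    ∃ a b : 𝟙_ (Over (Spec (CommRingCat.of k))) ⟶ G, PtU mu a ∧ PtU (negLam mu) b ∧
      ∀ s, DenseAt p₁ (ad (a * b) q) s ∧ DenseAt p₂ (ad (a * b) q) s := by
  have hGa : IsAffineHom G.hom := hG.1
  have hGs : Smooth G.hom := hG.2.1
  obtain ⟨U, _, u, hu, -⟩ := exists_isDynU mu
  obtain ⟨V, _, v, hv, -⟩ := exists_isDynU (negLam mu)
  have hX : IsAffRet (U ⊗ V) :=
    (UAff.isAffRet_of_isDynU mu u hu).tensor (UAff.isAffRet_of_isDynU (negLam mu) v hv)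
  let ϕ : Spec (CommRingCat.of K) ⟶ Spec (CommRingCat.of k) :=
    Spec.map (CommRingCat.ofHom (algebraMap k K))
  obtain ⟨a, b, ha, hb, hd⟩ := exists_dense (RedBcAny636.isReductive_bc ϕ hG) h5 (bcLam mu ϕ)
    (bcLam lam₁ ϕ) (bcLam lam₂ ϕ) (h₁.bc ϕ) (h₂.bc ϕ) (hq.bc ϕ)
  obtain ⟨a', rfl⟩ := ((hu.bc ϕ).iff_ptU _ _).2 ha
  obtain ⟨b', rfl⟩ := ((hv.bc ϕ).iff_ptU _ _).2 (by rw [OppS172.bcLam_negLam]; exact hb)
  obtain ⟨α, rfl⟩ := exists_sec ϕ a'
  obtain ⟨β, rfl⟩ := exists_sec ϕ b'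
  rw [← sec_comp, ← sec_comp, ← sec_mul] at hd
  let τ : U ⊗ V ⟶ G := (fst U V ≫ u) * (snd U V ≫ v)
  let y : Over.mk ϕ ⟶ U ⊗ V := lift α β
  have hy : y ≫ τ = (α ≫ u) * (β ≫ v) := by
    rw [MonObj.comp_mul, ← Category.assoc, ← Category.assoc, lift_fst, lift_snd]
  rw [← hy] at hd
  -- the point of `X`
  let pt : Spec (CommRingCat.of K) := IsLocalRing.closedPoint K
  have e1 : LocT p₁ q (U ⊗ V).hom τ (y.left pt) :=
    locT_of_denseT hG hp₁ hqp (denseT_of_bc p₁ q (U ⊗ V).hom τ y (hd pt).1)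
  have e2 : LocT p₂ q (U ⊗ V).hom τ (y.left pt) :=
    locT_of_denseT hG hp₂ hqp (denseT_of_bc p₂ q (U ⊗ V).hom τ y (hd pt).2)
  let W : (U ⊗ V).left.Opens := ⟨{x | LocT p₁ q (U ⊗ V).hom τ x} ∩ {x | LocT p₂ q (U ⊗ V).hom τ x},
    (isOpen_locSm _).inter (isOpen_locSm _)⟩
  have hmax : ∀ m : Ideal k, m.IsMaximal → m = ⊥ := fun m hm =>
    (eq_or_ne m ⊥).resolve_right fun h => hm.ne_top ((Ideal.eq_bot_or_top m).resolve_left h)
  obtain ⟨c, hc⟩ := hX.secThrough (A := k)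
    (Set.Finite.subset (Set.finite_singleton ⊥) fun m hm => hmax m hm)
    (fun m hm => by
      obtain rfl := hmax m hm
      exact Infinite.of_injective (Ideal.Quotient.mk (⊥ : Ideal k))
        (RingHom.injective_iff_ker_eq_bot _ |>.2 Ideal.mk_ker)) W
    (fun s => ⟨y.left pt, ⟨e1, e2⟩, Subsingleton.elim (α := PrimeSpectrum k) _ _⟩)
  have hcs : ∀ s : Spec (CommRingCat.of k), c.left s ∈ W := fun s => hc s (by
    have h1 : ({s} : Set (PrimeSpectrum k)) = Set.univ :=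
      Set.eq_univ_of_forall fun x => Subsingleton.elim (α := PrimeSpectrum k) _ _
    change IsClosed ({s} : Set (PrimeSpectrum k))
    rw [h1]
    exact isClosed_univ)
  have hcg : c ≫ τ = (c ≫ fst U V ≫ u) * (c ≫ snd U V ≫ v) := by
    rw [MonObj.comp_mul]
  refine ⟨c ≫ fst U V ≫ u, c ≫ snd U V ≫ v, (hu.iff_ptU _ _).1 ⟨c ≫ fst U V, Category.assoc _ _ _⟩,
    (hv.iff_ptU _ _).1 ⟨c ≫ snd U V, Category.assoc _ _ _⟩, fun s => ?_⟩
  have hm₁ := h₁.isMonHom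
  have hm₂ := h₂.isMonHom
  have hm := (isParabolic_ad hqp (c ≫ τ)).1
  rw [← hcg]
  exact ⟨denseAt_of_locSm hG (fun s => locSm_of_locT p₁ q (locT_bc p₁ q (U ⊗ V).hom τ c (hcs s).1)) s,
    denseAt_of_locSm hG (fun s => locSm_of_locT p₂ q (locT_bc p₂ q (U ⊗ V).hom τ c (hcs s).2)) s⟩

end Field

end Groth.Agent.RedSub.H664.DenseInf
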