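import Groth.Agent.RedSub.H664.Main

/-!
# Field case of the transversality theorem

`k` a field, `G` reductive over `k`, `mu`, `λ₁`, `λ₂` cocharacters: there are `a ∈ U(mu)(k)`,
`b ∈ U(-mu)(k)` such that `ab P(mu) (ab)⁻¹` contains a parabolic subgroup opposite to parabolic
subgroups of `P(λ₁)` and of `P(λ₂)`.
-/

set_option autoImplicit false
set_option linter.unusedSectionVars false

universe u

open CategoryTheory MonoidalCategory CartesianMonoidalCategory MonObj GrpObj AlgebraicGeometry Limits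
open Groth.Agent.Sga3B Groth.Agent.Sga3B.Parab Groth.Agent.Sga3B.Parab.Dyn998
open Groth.Agent.Sga3B.Parab.DynLevi998 Groth.Agent.Sga3B.Parab.DynInter998
open Groth.Agent.Sga3B.Parab.DynExist998
open Groth.Agent.RedSub.H664.Comb Groth.Agent.RedSub.H664.Calc2 Groth.Agent.RedSub.H664.Calc3
open Groth.Agent.RedSub.H664.Ad Groth.Agent.RedSub.H664.RedFacts Groth.Agent.RedSub.H664.Min
open Groth.Agent.RedSub.H664.LeviSub

namespace Groth.Agent.RedSub.H664.FFC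

variable {k : Type u} [Field k] {G : Over (Spec (CommRingCat.of k))} [GrpObj G]

/-- A minimal cocharacter below `mu` and commuting with `mu`. -/
theorem exists_isMin_comm (hG : Red.IsReductive G) (h5 : D5All k)
    (mu : Red.Gm (Spec (CommRingCat.of k)) ⟶ G) [IsMonHom mu] :
    ∃ mu0 : Red.Gm (Spec (CommRingCat.of k)) ⟶ G, IsMonHom mu0 ∧ Comm mu mu0 ∧ Le mu0 mu ∧ IsMin mu0 := by
  have h1 := hG.1
  have h2 := hG.2.1
  obtain ⟨mu1, hM, hle, hmin⟩ := exists_isMin (α := mu)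
  obtain ⟨w, hw, hc⟩ := exists_comm hG (h5 G hG) hle
  refine ⟨ad w⁻¹ mu1, inferInstance, ?_, ?_, hmin.ad _⟩
  · have := Comm.ad hc w⁻¹
    rw [ad_inv_ad] at this
    exact this.symm
  · have h3 := Le.ad hle w⁻¹
    exact h3.trans (eqv_ad (α := mu) (w := w⁻¹) hw.inv).1

/-- If `P(γ)` and `P(mu0)` have a common opposite then `P(γ) = g P(mu0) g⁻¹` with
`g ∈ U(mu0)(k) U(-mu0)(k)`. -/
theorem exists_conj_of_opp (hG : Red.IsReductive G) (h5 : D5 G)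
    {ξ mu0 δ : Red.Gm (Spec (CommRingCat.of k)) ⟶ G} [IsMonHom ξ] [IsMonHom mu0] [IsMonHom δ]
    (h : Opp δ mu0) (h' : Opp δ ξ) :
    ∃ v w : 𝟙_ (Over (Spec (CommRingCat.of k))) ⟶ G, PtU mu0 v ∧ PtU (negLam mu0) w ∧
      Eqv ξ (ad (v * w) mu0) := by
  have h1 := hG.1
  obtain ⟨v, hv, e1⟩ := Opp.exists_conj hG h5 h.symm
  have e2 : Eqv (ad v⁻¹ δ) (negLam mu0) := by
    have := Eqv.ad e1 v⁻¹
    rwa [ad_inv_ad] at this
  have h3 : Opp (negLam mu0) (ad v⁻¹ ξ) := (h'.ad v⁻¹).congr e2 (Eqv.refl _)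
  obtain ⟨w, hw, e3⟩ := Opp.exists_conj hG h5 h3
  rw [negLam_negLam] at e3
  refine ⟨v, w, hv, hw, ?_⟩
  have := Eqv.ad e3 v
  rwa [ad_ad_inv, ← ad_mul] at this

/-- Passing from `mu0` to a larger `mu` commuting with it. -/
theorem exists_conj_le (hG : Red.IsReductive G) {mu mu0 : Red.Gm (Spec (CommRingCat.of k)) ⟶ G}
    [IsMonHom mu] [IsMonHom mu0] (hc : Comm mu mu0) (hle : Le mu0 mu)
    {v w : 𝟙_ (Over (Spec (CommRingCat.of k))) ⟶ G} (hv : PtU mu0 v) (hw : PtU (negLam mu0) w) :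
    ∃ a b z : 𝟙_ (Over (Spec (CommRingCat.of k))) ⟶ G, PtU mu a ∧ PtU (negLam mu) b ∧ PtZ mu z ∧
      v * w = a * b * z := by
  have h1 := hG.1
  obtain ⟨z₁, u₁, rfl, hz₁, -, hu₁, -⟩ := exists_levi_le hc hle Kd.U hv
  obtain ⟨z₂, u₂, rfl, hz₂, -, hu₂, -⟩ := exists_levi_le (ν := negLam mu) (lam := negLam mu0)
    hc.neg_left.neg_right (le_neg hG hc.symm hle) Kd.U hw
  have hz₂' : PtZ mu z₂ := (ptZ_neg_iff z₂).1 hz₂
  have hz : PtZ mu (z₁ * z₂) := hz₁.mul hz₂'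
  refine ⟨z₁ * u₁ * z₁⁻¹, (z₁ * z₂) * u₂ * (z₁ * z₂)⁻¹, z₁ * z₂, PtU.conj hu₁ hz₁.ptP,
    PtU.conj hu₂ ((ptZ_neg_iff _).2 hz).ptP, hz, ?_⟩
  group

/-- **Field case of the transversality theorem.** -/
theorem exists_transversal (hG : Red.IsReductive G) (h5 : D5All k)
    (mu lam₁ lam₂ : Red.Gm (Spec (CommRingCat.of k)) ⟶ G) [IsMonHom mu] [IsMonHom lam₁]
    [IsMonHom lam₂] :
    ∃ (a b : 𝟙_ (Over (Spec (CommRingCat.of k))) ⟶ G)
      (ξ α β : Red.Gm (Spec (CommRingCat.of k)) ⟶ G), IsMonHom ξ ∧ IsMonHom α ∧ IsMonHom β ∧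
      PtU mu a ∧ PtU (negLam mu) b ∧ Le ξ (ad (a * b) mu) ∧ Opp ξ α ∧ Le α lam₁ ∧ Opp ξ β ∧
      Le β lam₂ := by
  have h1 := hG.1
  have h2 := hG.2.1
  have h5G := h5 G hG
  obtain ⟨α, hα, hαle, hαm⟩ := exists_isMin (α := lam₁)
  obtain ⟨β, hβ, hβle, hβm⟩ := exists_isMin (α := lam₂)
  obtain ⟨mu0, hmu0, hc, hle, hmin⟩ := exists_isMin_comm hG h5 mu
  obtain ⟨ξ, hξ, hξα, hξβ⟩ := Main.main hG h5 hα hβ hαm hβm
  have hξm : IsMin ξ := Opp.isMin hG h5G hξα.symm hαm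
  obtain ⟨δ, hδ, hδξ, hδmu⟩ := Main.main hG h5 hξ hmu0 hξm hmin
  obtain ⟨v, w, hv, hw, e⟩ := exists_conj_of_opp hG h5G hδmu hδξ
  obtain ⟨a, b, z, ha, hb, hz, hvw⟩ := exists_conj_le hG hc hle hv hw
  refine ⟨a, b, ξ, α, β, hξ, hα, hβ, ha, hb, ?_, hξα, hαle, hξβ, hβle⟩
  have h3 : Le ξ (ad (v * w) mu) := e.1.trans (Le.ad hle _)
  rwa [hvw, ad_mul (a * b), ad_eq_of_ptZ hz] at h3

end Groth.Agent.RedSub.H664.FFC
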