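import Groth.Agent.RedSub.H664.Transp
import Groth.Agent.RedSub.H664.FFC

/-!
# Field case: dominance of `P × int(g)Q ⟶ G`
-/

set_option autoImplicit false
set_option linter.unusedSectionVars false

universe u

open CategoryTheory MonoidalCategory CartesianMonoidalCategory MonObj GrpObj AlgebraicGeometry Limits
open Groth.Agent.Sga3B Groth.Agent.Sga3B.Parab Groth.Agent.Sga3B.Parab.Dyn998
open Groth.Agent.Sga3B.Parab.DynLevi998 Groth.Agent.Sga3B.Parab.DynInter998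
open Groth.Agent.Sga3B.Parab.DynExist998
open Groth.Agent.RedSub.H661 Groth.Agent.RedSub.H661.Dense Groth.Agent.RedSub.H661.Borels
open Groth.Agent.RedSub.H664.Comb Groth.Agent.RedSub.H664.Calc2 Groth.Agent.RedSub.H664.Calc3
open Groth.Agent.RedSub.H664.Ad Groth.Agent.RedSub.H664.RedFacts Groth.Agent.RedSub.H664.Min
open Groth.Agent.RedSub.H664.LeviSub Groth.Agent.RedSub.H664.Transp

namespace Groth.Agent.RedSub.H664.DenseK

section Ring

variable {R : Type u} [CommRing R] {G : Over (Spec (CommRingCat.of R))} [GrpObj G]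
  {P Q : Over (Spec (CommRingCat.of R))} [GrpObj P] [GrpObj Q]

/-- Opposite subgroups: the product is dominant. -/
theorem denseAt_of_opp (hG : Red.IsReductive G) {κ : Red.Gm (Spec (CommRingCat.of R)) ⟶ G}
    [IsMonHom κ] {p : P ⟶ G} {q : Q ⟶ G}
    (hp : ∀ (X : Over (Spec (CommRingCat.of R))) (x : X ⟶ G), PtP (negLam κ) x →
      ∃ y : X ⟶ P, y ≫ p = x)
    (hq : ∀ (X : Over (Spec (CommRingCat.of R))) (x : X ⟶ G), PtP κ x → ∃ y : X ⟶ Q, y ≫ q = x)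
    (s : Spec (CommRingCat.of R)) : DenseAt p q s := by
  have h1 := hG.1
  have h2 := hG.2.1
  obtain ⟨B, _, b, hb, -⟩ := exists_isDynP κ
  obtain ⟨U, _, u, hu, -⟩ := exists_isDynU (negLam κ)
  have hbm := hb.isMonHom
  have hum := hu.isMonHom
  have hc : IsOpenImmersion ((u ⊗ₘ b) ≫ μ[G]).left := DynCell998.isOpenImmersion_cell hb hu
  have h3 : DenseAt u b s := Main.denseAt_of_isOpenMap hG ((u ⊗ₘ b) ≫ μ[G]).left.isOpenMap s
  obtain ⟨y, hy⟩ := hp U u (((hu.iff_ptU _ _).1 ⟨𝟙 _, Category.id_comp _⟩).ptP)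
  obtain ⟨z, hz⟩ := hq B b ((hb.iff_ptP _ _).1 ⟨𝟙 _, Category.id_comp _⟩)
  exact denseAt_mono y z hy hz h3

/-- Points of a conjugate. -/
lemma exists_of_le_ad {mu ξ : Red.Gm (Spec (CommRingCat.of R)) ⟶ G} {q : Q ⟶ G}
    (hq : IsDynP mu q) {g : 𝟙_ (Over (Spec (CommRingCat.of R))) ⟶ G} (h : Le ξ (ad g mu))
    (X : Over (Spec (CommRingCat.of R))) (x : X ⟶ G) (hx : PtP ξ x) :
    ∃ y : X ⟶ Q, y ≫ ad g q = x := by
  have h1 : PtP (ad g mu) x := h X x hx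
  have h2 : PtP mu (ad g⁻¹ x) := (pt_ad_iff Kd.P g mu x).1 h1
  obtain ⟨y, hy⟩ := (hq.iff_ptP _ _).2 h2
  exact ⟨y, by rw [comp_ad, hy, ad_ad_inv]⟩

theorem denseAt_of_opp' (hG : Red.IsReductive G) {mu ξ α lam : Red.Gm (Spec (CommRingCat.of R)) ⟶ G}
    {p : P ⟶ G} {q : Q ⟶ G} (hq : IsDynP mu q) (hp : IsDynP lam p)
    {g : 𝟙_ (Over (Spec (CommRingCat.of R))) ⟶ G} (h : Le ξ (ad g mu)) (ho : Opp ξ α)
    (h' : Le α lam) (s : Spec (CommRingCat.of R)) : DenseAt p (ad g q) s := by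
  obtain ⟨κ, hκ, e1, e2⟩ := ho
  have := hq.isMonHom
  refine denseAt_of_opp hG (κ := κ) (q := ad g q) ?_ ?_ s
  · intro X x hx
    exact (hp.iff_ptP _ _).2 (h' X x (e2.1 X x hx))
  · intro X x hx
    exact exists_of_le_ad hq h X x (e1.1 X x hx)

end Ring

section Field

variable {k : Type u} [Field k] {G : Over (Spec (CommRingCat.of k))} [GrpObj G]
  {P₁ P₂ Q : Over (Spec (CommRingCat.of k))} [GrpObj P₁] [GrpObj P₂] [GrpObj Q]

/-- **Field case, under `D5`.** -/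
theorem exists_dense (hG : Red.IsReductive G) (h5 : D5All k)
    (mu lam₁ lam₂ : Red.Gm (Spec (CommRingCat.of k)) ⟶ G) [IsMonHom mu] [IsMonHom lam₁]
    [IsMonHom lam₂] {p₁ : P₁ ⟶ G} {p₂ : P₂ ⟶ G} {q : Q ⟶ G} (h₁ : IsDynP lam₁ p₁)
    (h₂ : IsDynP lam₂ p₂) (hq : IsDynP mu q) :
    ∃ a b : 𝟙_ (Over (Spec (CommRingCat.of k))) ⟶ G, PtU mu a ∧ PtU (negLam mu) b ∧
      ∀ s, DenseAt p₁ (ad (a * b) q) s ∧ DenseAt p₂ (ad (a * b) q) s := by
  obtain ⟨a, b, ξ, α, β, hξ, hα, hβ, ha, hb, h3, h4, h5, h6, h7⟩ :=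
    FFC.exists_transversal hG h5 mu lam₁ lam₂
  exact ⟨a, b, ha, hb, fun s => ⟨denseAt_of_opp' hG hq h₁ h3 h4 h5 s,
    denseAt_of_opp' hG hq h₂ h3 h6 h7 s⟩⟩

end Field

end Groth.Agent.RedSub.H664.DenseK
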