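import Groth.Agent.RedSub.H659.UVec
import Groth.Agent.Sga3B.Parab.OppK172
import Groth.Agent.Sga3B.Parab.DynLevi998

/-!
# `U_G(α)` over a field has a nontrivial rational point unless it is trivial
-/

set_option autoImplicit false
set_option linter.unusedSectionVars false

universe u

open CategoryTheory MonoidalCategory CartesianMonoidalCategory MonObj GrpObj AlgebraicGeometry Limits
open Groth.Agent.Books.AffBridge Groth.Agent.Books.AffBridge2 Groth.Agent.Sga3B.RG.BrPts
open Groth.Agent.Sga3B.Parab Groth.Agent.Sga3B.Parab.Dyn998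
open Groth.Agent.Sga3B.Parab.DynLevi998 Groth.Agent.Sga3B.Parab.DynExist998

namespace Groth.Agent.RedSub.H664.F3

variable {k : Type u} [Field k] {G : Over (Spec (CommRingCat.of k))} [GrpObj G]
  [IsAffineHom G.hom] [Smooth G.hom]
variable {α : Red.Gm (Spec (CommRingCat.of k)) ⟶ G} [IsMonHom α]

/-- If `1` is the only rational point of `U_G(α)` then `U_G(α) = 1`. -/
theorem eq_one_of_forall
    (h : ∀ x : 𝟙_ (Over (Spec (CommRingCat.of k))) ⟶ G, PtU α x → x = 1)
    {X : Over (Spec (CommRingCat.of k))} {g : X ⟶ G} (hg : PtU α g) : g = 1 := by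
  obtain ⟨U, _, u, hu, -⟩ := exists_isDynU α
  have hum := hu.isMonHom
  have humono := hu.mono
  obtain ⟨E, _, _, -, -, ⟨ψ⟩⟩ := Groth.Agent.RedSub.H659.UVec.exists_vec hu
  -- all algebra maps `Sym E → k` are equal
  have h1 : ∀ f f' : SymmetricAlgebra k E →ₐ[k] k, f = f' := by
    intro f f'
    have h2 : ∀ f : SymmetricAlgebra k E →ₐ[k] k,
        (unitIso k).hom ≫ specMap k f ≫ ψ.inv = 1 := by
      intro f
      rw [← cancel_mono u, MonObj.one_comp]
      exact h _ (hu.ptU.comp _)
    have h3 := (h2 f).trans (h2 f').symm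
    rw [cancel_epi, cancel_mono] at h3
    exact specMap_injective k h3
  -- so `E = 0`
  have h4 : ∀ x : E, x = 0 := by
    intro x
    rw [← Module.forall_dual_apply_eq_zero_iff k x]
    intro f
    have h7 := DFunLike.congr_fun (h1 (SymmetricAlgebra.lift f) (SymmetricAlgebra.lift 0))
      (SymmetricAlgebra.ι k E x)
    rw [SymmetricAlgebra.lift_ι_apply, SymmetricAlgebra.lift_ι_apply] at h7
    exact h7
  have h5 : (Algebra.ofId k (SymmetricAlgebra k E)).comp
      (SymmetricAlgebra.algebraMapInv (R := k) (M := E)) = AlgHom.id k _ := by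
    apply SymmetricAlgebra.algHom_ext
    apply LinearMap.ext
    intro x
    rw [h4 x, map_zero, map_zero]
  have h6 : Function.Bijective (algebraMap k (SymmetricAlgebra k E)) := by
    refine ⟨(algebraMap k (SymmetricAlgebra k E)).injective, fun y =>
      ⟨SymmetricAlgebra.algebraMapInv y, DFunLike.congr_fun h5 y⟩⟩
  have h7 : IsIso (SpecOver k (SymmetricAlgebra k E)).hom := by
    change IsIso (Spec.map (CommRingCat.ofHom (algebraMap k (SymmetricAlgebra k E))))
    have h8 : IsIso (CommRingCat.ofHom (algebraMap k (SymmetricAlgebra k E))) :=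
      (ConcreteCategory.isIso_iff_bijective _).2 h6
    infer_instance
  have h8 : IsIso U.hom := by
    rw [← Over.w ψ.hom]
    have : IsIso ψ.hom.left := (Over.forget _).map_isIso ψ.hom
    infer_instance
  obtain ⟨x, rfl⟩ := (hu.iff_ptU _ g).2 hg
  have h9 : x = 1 := by
    apply Over.OverMorphism.ext
    rw [← cancel_mono U.hom, Over.w, Over.w]
  rw [h9, MonObj.one_comp]

end Groth.Agent.RedSub.H664.F3
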