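import Groth.Agent.RedSub.H664.LeviSub
import Groth.Agent.RedSub.H664.F3

/-!
# Two minimal parabolic subgroups have a common opposite one

`main` : `G` reductive over a field `k` (all reductive groups over `k` satisfying `D5`), `α`, `β`
cocharacters with `P(α)`, `P(β)` minimal; then some `P(δ)` is opposite to both.
-/

set_option autoImplicit false
set_option linter.unusedSectionVars false

universe u

open CategoryTheory MonoidalCategory CartesianMonoidalCategory MonObj GrpObj AlgebraicGeometry Limits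
open Groth.Agent.Sga3B Groth.Agent.Sga3B.Parab Groth.Agent.Sga3B.Parab.Dyn998
open Groth.Agent.Sga3B.Parab.DynLevi998 Groth.Agent.Sga3B.Parab.DynInter998
open Groth.Agent.Sga3B.Parab.DynExist998
open Groth.Agent.RedSub.H664.Comb Groth.Agent.RedSub.H664.Calc2 Groth.Agent.RedSub.H664.Calc3
open Groth.Agent.RedSub.H664.Ad Groth.Agent.RedSub.H664.RedFacts Groth.Agent.RedSub.H664.Min
open Groth.Agent.RedSub.H664.LeviSub

namespace Groth.Agent.RedSub.H664.Main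

variable {k : Type u} [Field k] {G : Over (Spec (CommRingCat.of k))} [GrpObj G]

section Rank

variable {lam ν : Red.Gm (Spec (CommRingCat.of k)) ⟶ G} [IsMonHom lam] [IsMonHom ν]

/-- If `P(λ) < P(ν)` there is a nontrivial rational point of `U(λ) ∩ Z(ν)`. -/
theorem exists_point (hG : Red.IsReductive G) (hc : Comm ν lam) (h : Le lam ν) (hne : ¬ Le ν lam) :
    ∃ x : 𝟙_ (Over (Spec (CommRingCat.of k))) ⟶ G, PtZ ν x ∧ PtU lam x ∧ x ≠ 1 := by
  by_contra hcon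
  push Not at hcon
  apply hne
  have h1 := hG.1
  have h2 := hG.2.1
  obtain ⟨L, _, z, hz, -⟩ := exists_isDynZ ν
  have hzm := hz.isMonHom
  have hzmono := hz.mono
  have hzcl : IsClosedImmersion z.left := hz.isClosedImmersion
  have hL : Red.IsReductive L := isReductive_of_isDynZ ν K3b143.dynK3 hG z hz
  have hLa := hL.1
  have hLs := hL.2.1
  obtain ⟨l, hlm, hl⟩ := exists_lift hz hc
  have h3 : ∀ (X : Over (Spec (CommRingCat.of k))) (g : X ⟶ L), PtU l g → g = 1 := by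
    intro X g hg
    refine F3.eq_one_of_forall (α := l) (fun x hx => ?_) hg
    have h4 : PtU lam (x ≫ z) := by
      rw [← hl]
      exact (pt_map_iff z Kd.U).2 hx
    have h5 := hcon (x ≫ z) ((hz.iff_ptZ _ _).1 ⟨x, rfl⟩) h4
    rw [← cancel_mono z, h5, MonObj.one_comp]
  have h6 : ∀ (X : Over (Spec (CommRingCat.of k))) (g : X ⟶ L), PtP l g → PtZ l g := by
    intro X g hg
    obtain ⟨a, b, ha, hb, rfl⟩ := PtP.exists_levi hg
    rw [h3 _ b hb, _root_.mul_one]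
    exact ha
  have h7 := ptP_neg_of (connected_fibres hL) l h6
  have h8 := ptZ_of_forall_ptP hL (negLam l) h7
  intro X g hg
  obtain ⟨a, b, ha, hb, rfl⟩ := PtP.exists_levi hg
  refine PtP.mul ?_ (ptU_of_le hG hc.symm h hb).ptP
  obtain ⟨a', rfl⟩ := (hz.iff_ptZ _ a).2 ha
  rw [← hl]
  exact ((pt_map_iff z Kd.Z).2 ((ptZ_neg_iff a').1 (h8 _ a')) : PtZ (l ≫ z) (a' ≫ z)).ptP

end Rank

/-- **Two minimal cocharacters have a common opposite one.** -/
theorem main (hG : Red.IsReductive G) (h5 : D5All k)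
    {α β : Red.Gm (Spec (CommRingCat.of k)) ⟶ G} (hα : IsMonHom α) (hβ : IsMonHom β)
    (hαm : IsMin α) (hβm : IsMin β) :
    ∃ δ : Red.Gm (Spec (CommRingCat.of k)) ⟶ G, IsMonHom δ ∧ Opp δ α ∧ Opp δ β := by
  have h1 := hG.1
  have h2 := hG.2.1
  have h5G := h5 G hG
  have : Nonempty {δ : Red.Gm (Spec (CommRingCat.of k)) ⟶ G // IsMonHom δ ∧ Opp δ α} :=
    ⟨⟨negLam α, inferInstance, (opp_neg α).symm⟩⟩
  obtain ⟨⟨δ, hδ, hδα⟩, hδmin⟩ := Noeth.exists_min_UP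
    (fun i : {δ : Red.Gm (Spec (CommRingCat.of k)) ⟶ G // IsMonHom δ ∧ Opp δ α} => i.1)
    (fun _ => β) (fun i => i.2.1) (fun _ => hβ)
  refine ⟨δ, hδ, hδα, ?_⟩
  by_contra hnopp
  obtain ⟨u, v, hu, hv, hc⟩ := h5G δ β hδ hβ
  -- `lam = ad u δ`, `mu = ad v β`
  obtain ⟨lam, hlam⟩ : ∃ lam, lam = ad u δ := ⟨_, rfl⟩
  obtain ⟨mu, hmu⟩ : ∃ mu, mu = ad v β := ⟨_, rfl⟩
  rw [← hlam, ← hmu] at hc
  have hlamM : IsMonHom lam := by rw [hlam]; infer_instance
  have hmuM : IsMonHom mu := by rw [hmu]; infer_instance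
  have e1 : Eqv lam δ := by rw [hlam]; exact eqv_ad hu.ptP
  have e2 : Eqv mu β := by rw [hmu]; exact eqv_ad hv.ptP
  have hUδ : ∀ (X : Over (Spec (CommRingCat.of k))) (g : X ⟶ G), PtU lam g ↔ PtU δ g := by
    intro X g
    rw [hlam]
    exact ptU_ad_iff hu.ptP g
  have hδm : IsMin δ := Opp.isMin hG h5G hδα.symm hαm
  have hlm : IsMin lam := hδm.of_eqv e1.symm
  have hmm : IsMin mu := hβm.of_eqv e2.symm
  have hnle : ¬ Le lam (negLam mu) := by
    intro hle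
    apply hnopp
    have h3 := (hmm.neg hG h5G) _ inferInstance hle
    have h4 := le_neg hG hc.neg_right hle
    have h6 := le_neg hG hc.neg_right.symm h3
    rw [negLam_negLam] at h4 h6
    exact ⟨lam, inferInstance, e1, Eqv.trans ⟨h4, h6⟩ e2⟩
  obtain ⟨a, b, ha, hb, hν1, hν2⟩ := hlm.wall hc.neg_right hnle
  have hm0 := isMonHom_cmb hc.neg_right a b
  have hcν0 : Comm lam (cmb a b lam (negLam mu)) := comm_cmb_left hc.neg_right a b
  have hagree0 : ∀ (X : Over (Spec (CommRingCat.of k))) (g : X ⟶ G),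
      PtZ (cmb a b lam (negLam mu)) g → (PtP lam g ↔ PtP mu g) := by
    have heq : cmb a b lam (negLam mu) = cmb a (-b) lam mu := by
      rw [cmb_eq, cmb_eq]
      congr 1
      rw [sm, sm, negLam, ← Category.assoc, ← DSmap_comp]
      congr 2
      ext
      simp [mlt]
    intro X g hg
    rw [heq] at hg
    exact pt_iff_of_ptZ hc Kd.P ha hb hg
  -- choose `ν` minimal
  have : Nonempty {ν : Red.Gm (Spec (CommRingCat.of k)) ⟶ G // IsMonHom ν ∧ Comm lam ν ∧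
      Le lam ν ∧ ¬ Le ν lam ∧ ∀ (X : Over (Spec (CommRingCat.of k))) (g : X ⟶ G), PtZ ν g →
        (PtP lam g ↔ PtP mu g)} :=
    ⟨⟨cmb a b lam (negLam mu), hm0, hcν0, hν1, hν2, hagree0⟩⟩
  obtain ⟨⟨ν, hνM, hcν, hlν, hνl, hagree⟩, hνmin⟩ := Noeth.exists_min_P
    (fun i : {ν : Red.Gm (Spec (CommRingCat.of k)) ⟶ G // IsMonHom ν ∧ Comm lam ν ∧
      Le lam ν ∧ ¬ Le ν lam ∧ ∀ (X : Over (Spec (CommRingCat.of k))) (g : X ⟶ G), PtZ ν g →
        (PtP lam g ↔ PtP mu g)} => i.1) (fun i => i.2.1)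
  have hnext : ∀ κ : Red.Gm (Spec (CommRingCat.of k)) ⟶ G, IsMonHom κ → Comm lam κ → Le lam κ →
      Le κ ν → Le κ lam ∨ Le ν κ := by
    intro κ hκ hcκ h3 h4
    by_cases h6 : Le κ lam
    · exact Or.inl h6
    · right
      have h7 : Comm κ ν := by
        have h8 : PtZ ν κ := hlm.ptZ hcν (comm_iff_ptZ.1 hcκ)
        exact (comm_iff_ptZ.2 h8).symm
      exact hνmin ⟨κ, hκ, hcκ, h3, h6, fun X g hg => hagree X g (ptZ_of_le hG h7 h4 hg)⟩ h4
  obtain ⟨x, hxZ, hxU, hx1⟩ := exists_point hG hcν.symm hlν hνl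
  obtain ⟨κ, hκM, hcκ, hκ1, hκ2⟩ := exists_opp_levi hG h5 hcν.symm hlν hlm hnext hxZ hxU hx1
  have hcμ : Comm ν mu := comm_iff_ptZ.2 (hlm.ptZ hcν (comm_iff_ptZ.1 hc))
  -- `α` is the conjugate of `-lam` under `w ∈ U(lam)`
  have hlα : Opp lam α := hδα.congr e1.symm (Eqv.refl _)
  obtain ⟨w, hw, hwα⟩ := Opp.exists_conj hG h5G hlα
  obtain ⟨y, t, hyt, hyZ, hyU, htU, -⟩ := exists_levi_le hcν.symm hlν Kd.U hw
  -- `κ₂ = N ν + κ`
  obtain ⟨N₁, hN₁0, hN₁⟩ := exists_N hcκ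
  obtain ⟨N₂, hN₂0, hN₂⟩ := exists_N hcκ.neg_left.neg_right
  obtain ⟨N, hN⟩ : ∃ N, N = max N₁ N₂ := ⟨_, rfl⟩
  have hNa : N ≥ N₁ := by rw [hN]; exact le_max_left _ _
  have hNb : N ≥ N₂ := by rw [hN]; exact le_max_right _ _
  have hM2 := isMonHom_cmb hcκ N 1
  have hneg : negLam (cmb N 1 ν κ) = cmb N 1 (negLam ν) (negLam κ) := by
    rw [negLam_cmb N 1 hcκ, cmb_eq, cmb_eq, sm, sm, sm, sm, negLam, negLam, ← Category.assoc,
      ← Category.assoc, ← DSmap_comp, ← DSmap_comp]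
    congr 3 <;> ext <;> simp [mlt]
  -- claim 1
  have hclaim1 : Opp (ad y (cmb N 1 ν κ)) α := by
    have h3 : Eqv (negLam (cmb N 1 ν κ)) (negLam lam) := by
      rw [hneg]
      constructor
      · intro X g hg
        obtain ⟨z', u', rfl, hz', hz'', hu'⟩ := ((hN₂ N hNb X g).1).1 hg
        refine PtP.mul ((hκ1 _ _ ((ptZ_neg_iff z').1 hz')).1 hz'') ?_
        exact (ptU_neg_of_le hG hcν hlν hu').ptP
      · intro X g hg
        obtain ⟨z', u', rfl, hz', hz'', hu', -⟩ := exists_levi_le (ν := negLam ν)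
          (lam := negLam lam) hcν.symm.neg_left.neg_right (le_neg hG hcν hlν) Kd.P hg
        exact ((hN₂ N hNb X _).1).2 ⟨z', u', rfl, hz', (hκ1 _ _ ((ptZ_neg_iff z').1 hz')).2 hz'', hu'⟩
    have h4 : Opp (cmb N 1 ν κ) (negLam lam) := ⟨cmb N 1 ν κ, hM2, Eqv.refl _, h3⟩
    -- conjugate by `t ∈ U(ν) ≤ P(κ₂)`
    have h6 : PtP (cmb N 1 ν κ) t := by
      refine ((hN₁ N hNa _ t).1).2 ⟨1, t, _root_.one_mul _, ?_, ?_, htU⟩
      · exact Kd.Z.pt_one ν
      · exact Kd.P.pt_one κ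
    have h7 : Opp (cmb N 1 ν κ) (ad t (negLam lam)) :=
      (h4.ad t).congr (eqv_ad h6) (Eqv.refl _)
    have h8 := h7.ad y
    rw [← ad_mul, hyt] at h8
    exact h8.congr (Eqv.refl _) hwα.symm
  -- claim 2
  have hclaim2 : ∀ (X : Over (Spec (CommRingCat.of k))) (g : X ⟶ G),
      PtU (ad y (cmb N 1 ν κ)) g → PtP mu g → PtU ν g := by
    intro X g hgU hgP
    have h3 : PtU (cmb N 1 ν κ) (ad y⁻¹ g) := (pt_ad_iff Kd.U y _ g).1 hgU
    obtain ⟨z', u', hzu, hz', hz'', hu'⟩ := ((hN₁ N hNa X _).2.1).1 h3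
    have hg : g = ad y z' * ad y u' := by
      rw [← map_mul', hzu, ad_ad_inv]
    have hy1 : PtZ ν (toUnit X ≫ y) := hyZ.comp _
    have h4 : PtZ ν (ad y z') := (hy1.mul hz').mul hy1.inv
    have h6 : PtU ν (ad y u') := PtU.conj hu' hy1.ptP
    rw [hg] at hgP
    have h7 : PtP mu (ad y z') := (levi_pt hcμ Kd.P h4 h6 hgP).1
    have h8 : PtP lam (ad y z') := (hagree _ _ h4).2 h7
    have hy2 : PtP lam (toUnit X ≫ y) := hyU.ptP.comp _
    have h9 : PtP lam z' := by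
      have h10 := (hy2.inv.mul h8).mul hy2
      have h11 : (toUnit X ≫ y)⁻¹ * ad y z' * (toUnit X ≫ y) = z' := by
        rw [ad]
        group
      rwa [h11] at h10
    have h12 : PtU (ad x (negLam lam)) z' := hκ2 _ _ hz' hz''
    have h13 : PtU (negLam lam) (ad x⁻¹ z') := (pt_ad_iff Kd.U x _ z').1 h12
    have hx2 : PtP lam (toUnit X ≫ x) := hxU.ptP.comp _
    have h14 : PtP lam (ad x⁻¹ z') := by
      rw [ad, GrpObj.comp_inv, _root_.inv_inv]
      exact (hx2.inv.mul h9).mul hx2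
    have h15 : ad x⁻¹ z' = 1 := eq_one_of_ptU_ptP h13 h14
    have h16 : z' = 1 := by
      have h17 : ad x (ad x⁻¹ z') = ad x 1 := by rw [h15]
      rw [ad_ad_inv] at h17
      rw [h17, ad]
      group
    rw [hg, h16]
    have h18 : ad y (1 : X ⟶ G) = 1 := by
      rw [ad]
      group
    rw [h18, _root_.one_mul]
    exact h6
  -- the contradiction
  have h3 := hδmin ⟨ad y (cmb N 1 ν κ), inferInstance, hclaim1⟩ (fun X g hg1 hg2 =>
    ⟨(hUδ X g).1 (ptU_of_le hG hcν hlν (hclaim2 X g hg1 (e2.2 X g hg2))), hg2⟩)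
    _ x ((hUδ _ x).1 hxU) (e2.1 _ x ((hagree _ x hxZ).1 hxU.ptP))
  have h4 : PtU ν x := hclaim2 _ x h3.1 (e2.2 _ x h3.2)
  exact hx1 (eq_one_of_ptU_ptZ h4 hxZ)

end Groth.Agent.RedSub.H664.Main
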