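import Groth.Agent.RedSub.H664.Calc3

/-!
# Noetherian arguments for closed conditions on points

`R` noetherian, `G` affine of finite type over `R`.  A nonempty family of conditions on points of
the form "`U(δ)` and `P(β)`" (or "`P(β)`") has a minimal element.
-/

set_option autoImplicit false
set_option linter.unusedSectionVars false

universe u v

open CategoryTheory MonoidalCategory CartesianMonoidalCategory MonObj GrpObj AlgebraicGeometry Limits
open scoped LaurentPolynomial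
open Groth.Agent.Books.AffBridge Groth.Agent.Books.DynBasic Groth.Agent.Books.DynLim
open Groth.Agent.Sga3B.Parab Groth.Agent.Sga3B.Parab.Chart998 Groth.Agent.Sga3B.RG
open Groth.Agent.Sga3B.Parab.OrbM156 Groth.Agent.Sga3B.Parab.Dyn998
open Groth.Agent.Sga3B.Parab.DynLevi998 Groth.Agent.Sga3B.Parab.DynInter998
open Groth.Agent.Sga3B.Parab.Rep998 Groth.Agent.Sga3B.Parab.DynExist998
open Groth.Agent.RedSub.H664.Comb Groth.Agent.RedSub.H664.Calc1 Groth.Agent.RedSub.H664.Calc3

namespace Groth.Agent.RedSub.H664.Noeth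

variable {R : Type u} [CommRing R] {G : Over (Spec (CommRingCat.of R))} [GrpObj G]

section Chart

variable {A : Type u} [CommRing A] [HopfAlgebra R A]
  (e : Red.bc (𝟙 (Spec (CommRingCat.of R))) G ≅ SpecOver R A) [IsMonHom e.hom]

/-- A family of conditions given by ideals has a minimal element. -/
theorem exists_min_chart [IsNoetherianRing A] {Idx : Type v} [Nonempty Idx]
    (Φ : Idx → ∀ (C : Type u) [CommRing C] (c : Spec (CommRingCat.of C) ⟶ Spec (CommRingCat.of R)),
      (aff C c ⟶ G) → Prop) (I : Idx → Ideal A)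
    (hI : ∀ (i : Idx) (C : Type u) [CommRing C] [Algebra R C]
      (c : Spec (CommRingCat.of C) ⟶ Spec (CommRingCat.of R))
      (hc : Spec.map (CommRingCat.ofHom (algebraMap R C)) ≫ 𝟙 _ = c) (g : A →ₐ[R] C),
      Φ i C c (pt e hc g) ↔ ∀ a ∈ I i, g a = 0) :
    ∃ i₀ : Idx, ∀ i : Idx,
      (∀ (C : Type u) [CommRing C] (c : Spec (CommRingCat.of C) ⟶ Spec (CommRingCat.of R))
        (g : aff C c ⟶ G), Φ i C c g → Φ i₀ C c g) →
      ∀ (C : Type u) [CommRing C] (c : Spec (CommRingCat.of C) ⟶ Spec (CommRingCat.of R))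
        (g : aff C c ⟶ G), Φ i₀ C c g → Φ i C c g := by
  obtain ⟨J, ⟨i₀, rfl⟩, hmax⟩ := (set_has_maximal_iff_noetherian (R := A) (M := A)).2 inferInstance
    (Set.range I) (Set.range_nonempty I)
  refine ⟨i₀, fun i H C _ c g hg => ?_⟩
  have h1 : I i₀ ≤ I i := by
    intro a ha
    have hc1 : Spec.map (CommRingCat.ofHom (algebraMap R (A ⧸ I i))) ≫ 𝟙 _ =
      Spec.map (CommRingCat.ofHom (algebraMap R (A ⧸ I i))) := Category.comp_id _
    have h2 : Φ i (A ⧸ I i) _ (pt e hc1 (Ideal.Quotient.mkₐ R (I i))) :=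
      (hI i _ _ hc1 _).2 fun b hb => Ideal.Quotient.eq_zero_iff_mem.2 hb
    exact Ideal.Quotient.eq_zero_iff_mem.1 ((hI i₀ _ _ hc1 _).1 (H _ _ _ h2) a ha)
  have h2 : ¬ I i₀ < I i := hmax _ ⟨i, rfl⟩
  have h3 : I i₀ = I i := h1.eq_of_not_lt h2
  letI : Algebra R C := (Spec.preimage c).hom.toAlgebra
  have hc : Spec.map (CommRingCat.ofHom (algebraMap R C)) ≫ 𝟙 _ = c := by
    rw [Category.comp_id]
    exact Spec.map_preimage c
  obtain ⟨g', rfl⟩ := (pt_bijective e hc).2 g
  rw [hI i C c hc, ← h3, ← hI i₀ C c hc]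
  exact hg

end Chart

variable [IsAffineHom G.hom] [LocallyOfFiniteType G.hom] [IsNoetherianRing R]

omit [IsAffineHom G.hom] in
lemma isNoetherian_of_chart {A : Type u} [CommRing A] [HopfAlgebra R A]
    (e : Red.bc (𝟙 (Spec (CommRingCat.of R))) G ≅ SpecOver R A) : IsNoetherianRing A := by
  have hft : Algebra.FiniteType R A := by
    have h0 : LocallyOfFiniteType (Spec.map (CommRingCat.ofHom (algebraMap R A))) ↔ _ :=
      HasRingHomProperty.Spec_iff (P := @LocallyOfFiniteType)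
    refine (h0.trans RingHom.finiteType_algebraMap).1 ?_
    change LocallyOfFiniteType (SpecOver R A).hom
    have h1 : LocallyOfFiniteType (Red.bc (𝟙 (Spec (CommRingCat.of R))) G).hom := by
      have : (Red.bc (𝟙 (Spec (CommRingCat.of R))) G).hom =
        pullback.snd G.hom (𝟙 (Spec (CommRingCat.of R))) := rfl
      rw [this]
      infer_instance
    have h2 : (SpecOver R A).hom = e.inv.left ≫ (Red.bc (𝟙 (Spec (CommRingCat.of R))) G).hom :=
      (Over.w e.inv).symm
    rw [h2]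
    infer_instance
  exact Algebra.FiniteType.isNoetherianRing R A

/-- Among a nonempty family of pairs of cocharacters `(δ, β)` there is one with `U(δ) ∩ P(β)`
minimal. -/
theorem exists_min_UP {Idx : Type v} [Nonempty Idx] (δ β : Idx → (Red.Gm (Spec (CommRingCat.of R)) ⟶ G))
    (hδ : ∀ i, IsMonHom (δ i)) (hβ : ∀ i, IsMonHom (β i)) :
    ∃ i₀ : Idx, ∀ i : Idx,
      (∀ (X : Over (Spec (CommRingCat.of R))) (g : X ⟶ G),
        PtU (δ i) g → PtP (β i) g → PtU (δ i₀) g ∧ PtP (β i₀) g) →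
      ∀ (X : Over (Spec (CommRingCat.of R))) (g : X ⟶ G),
        PtU (δ i₀) g → PtP (β i₀) g → PtU (δ i) g ∧ PtP (β i) g := by
  obtain ⟨A, _, _, e, _⟩ := exists_chart1 (G := G)
  have hA := isNoetherian_of_chart e
  obtain ⟨i₀, hi₀⟩ := exists_min_chart e
    (fun i C _ c (g : aff C c ⟶ G) => LimOne (δ i) g ∧ LimEx (β i) g)
    (fun i => JU (@lamB _ G _ R _ _ A _ _ (δ i) e _ (hδ i)) ⊔
      JP (@lamB _ G _ R _ _ A _ _ (β i) e _ (hβ i))) (by
      intro i C _ _ c hc g
      have := hδ i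
      have := hβ i
      rw [limOne_pt_iff, limEx_pt_iff]
      constructor
      · rintro ⟨h1, h2⟩ a ha
        have h3 : JU (lamB (δ i) e) ⊔ JP (lamB (β i) e) ≤ RingHom.ker g.toRingHom :=
          sup_le (fun x hx => h1 x hx) (fun x hx => h2 x hx)
        exact h3 ha
      · intro h
        exact ⟨fun a ha => h a (Ideal.mem_sup_left ha), fun a ha => h a (Ideal.mem_sup_right ha)⟩)
  refine ⟨i₀, fun i H X g h1 h2 => ?_⟩
  have h3 := hi₀ i (fun C _ c g hg => by
    obtain ⟨h4, h5⟩ := H _ g (ptU_iff.2 hg.1) (ptP_iff.2 hg.2)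
    exact ⟨ptU_iff.1 h4, ptP_iff.1 h5⟩)
  exact ⟨fun C _ c x => (h3 C c (x ≫ g) ⟨h1 C c x, h2 C c x⟩).1,
    fun C _ c x => (h3 C c (x ≫ g) ⟨h1 C c x, h2 C c x⟩).2⟩

/-- Among a nonempty family of cocharacters there is one with `P(β)` minimal. -/
theorem exists_min_P {Idx : Type v} [Nonempty Idx] (β : Idx → (Red.Gm (Spec (CommRingCat.of R)) ⟶ G))
    (hβ : ∀ i, IsMonHom (β i)) :
    ∃ i₀ : Idx, ∀ i : Idx, Le (β i) (β i₀) → Le (β i₀) (β i) := by
  obtain ⟨A, _, _, e, _⟩ := exists_chart1 (G := G)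
  have hA := isNoetherian_of_chart e
  obtain ⟨i₀, hi₀⟩ := exists_min_chart e
    (fun i C _ c (g : aff C c ⟶ G) => LimEx (β i) g)
    (fun i => JP (@lamB _ G _ R _ _ A _ _ (β i) e _ (hβ i))) (by
      intro i C _ _ c hc g
      have := hβ i
      rw [limEx_pt_iff])
  refine ⟨i₀, fun i H X g h1 => ?_⟩
  have h3 := hi₀ i (fun C _ c g hg => ptP_iff.1 (H _ g (ptP_iff.2 hg)))
  exact fun C _ c x => h3 C c (x ≫ g) (h1 C c x)

end Groth.Agent.RedSub.H664.Noeth
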