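import Groth.Agent.RedSub.H664.Calc3
import Groth.Agent.Redsub.H656.RedCent
import Groth.Agent.Sga3B.Parab.Uncond688
import Groth.Agent.Sga3B.Parab.K3b143
import Groth.Agent.Sga3B.Parab.OppS172

/-!
# Facts on cocharacters of reductive groups

`G` reductive over `S`.

* `ptP_neg_of` : `Q` smooth affine with connected geometric fibres, `P_Q(μ) ≤ Z_Q(μ)`; then
  `P_Q(-μ) = Q`;
* `ptZ_of_forall_ptP` : `P_G(α) = G` implies `Z_G(α) = G`;
* `ptZ_of_ptZ_ptP` : `α ∈ Z(α) ≤ P(β)`, `α`, `β` commute, implies `Z(α) ≤ Z(β)`;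
* `ptP_of_ptU` : `α`, `β` commute and `P(α) ≤ P(β)` implies `U(β) ≤ P(α)`;
* over an affine base moreover `U(β) ≤ U(α)`, `P(-α) ≤ P(-β)`, `U(-β) ≤ U(-α)`.
-/

set_option autoImplicit false
set_option linter.unusedSectionVars false

universe u

open CategoryTheory MonoidalCategory CartesianMonoidalCategory MonObj GrpObj AlgebraicGeometry Limits
open Groth.Agent.Books.AffBridge Groth.Agent.Books.AlgPts
open Groth.Agent.Sga3B Groth.Agent.Sga3B.Parab Groth.Agent.Sga3B.Parab.Chart998 Groth.Agent.Sga3B.RG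
open Groth.Agent.Sga3B.Parab.Dyn998 Groth.Agent.Sga3B.RG.BrPts
open Groth.Agent.Sga3B.Parab.DynLevi998 Groth.Agent.Sga3B.Parab.DynInter998
open Groth.Agent.Sga3B.Parab.DynExist998 Groth.Agent.Sga3B.Parab.OppS172
open Groth.Agent.RedSub.H664.Comb Groth.Agent.RedSub.H664.Calc2 Groth.Agent.RedSub.H664.Calc3

namespace Groth.Agent.RedSub.H664.RedFacts

section Any

variable {S : Scheme.{u}}

/-- `P_Q(μ) ≤ Z_Q(μ)` implies `P_Q(-μ) = Q`. -/
theorem ptP_neg_of {Q : Over S} [GrpObj Q] [hQa : IsAffineHom Q.hom] [hQs : Smooth Q.hom]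
    (hqc : ∀ s : S, ConnectedSpace (Red.geomFibre s Q).left) (mu : Red.Gm S ⟶ Q) [IsMonHom mu]
    (hPZ : ∀ (X : Over S) (x : X ⟶ Q), PtP mu x → PtZ mu x) (X : Over S) (x : X ⟶ Q) :
    PtP (negLam mu) x := by
  obtain ⟨P₁, _, p₁, hp₁, -⟩ := exists_isDynP mu
  obtain ⟨Z₁, _, z₁, hz₁, -⟩ := exists_isDynZ mu
  obtain ⟨b, hb⟩ := (hz₁.iff_ptZ _ p₁).2
    (hPZ _ _ ((hp₁.iff_ptP _ p₁).1 ⟨𝟙 _, Category.id_comp _⟩))
  obtain ⟨R, _, r, hr, hrcl⟩ := exists_isDynP (negLam mu)
  have hrs : Smooth R.hom := hr.smooth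
  have hriso : IsIso r := by
    refine FibIsoSch.isIso_of_fibres r fun s => ⟨AlgebraicClosure (S.residueField s), inferInstance,
      Red.geomPt s, geomPt_closedPoint s, ?_⟩
    obtain ⟨h1, h2⟩ := fibre_props Q s hQa hQs
    have h3 := hqc s
    refine OppK172.isIso_of_ptP_le (Q := Red.geomFibre s Q) (R := Red.geomFibre s R)
      (bcLam mu (Red.geomPt s)) ?_ _ ?_
    · intro X x hx
      obtain ⟨y, rfl⟩ := ((hp₁.bc (Red.geomPt s)).iff_ptP _ _).2 hx
      refine ((hz₁.bc (Red.geomPt s)).iff_ptZ _ _).1 ⟨y ≫ (Over.pullback (Red.geomPt s)).map b, ?_⟩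
      rw [Category.assoc, ← Functor.map_comp, hb]
    · rw [← bcLam_negLam]
      exact hr.bc _
  exact (hr.iff_ptP _ _).1 ⟨x ≫ inv r, by simp⟩

variable {G : Over S} [GrpObj G] (hG : Red.IsReductive G)
include hG

lemma connected_fibres (s : S) : ConnectedSpace (Red.geomFibre s G).left := (hG.2.2 s).2.2.1

/-- `P_G(α) = G` implies `Z_G(α) = G`. -/
theorem ptZ_of_forall_ptP (α : Red.Gm S ⟶ G) [IsMonHom α]
    (h : ∀ (X : Over S) (g : X ⟶ G), PtP α g) (X : Over S) (g : X ⟶ G) : PtZ α g := by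
  have h1 := hG.1
  have h2 := hG.2.1
  have h3 : IsDynP α (𝟙 G) := DynFib678.isDynP_id_iff.2 h
  have h4 : IsDynZ α (𝟙 G) := by
    refine Groth.Agent.Redsub.H656.RedCent.isDynZ_id_of_fibres hG α fun s => ?_
    have h5 := h3.bc (Red.geomPt s)
    rwa [CategoryTheory.Functor.map_id] at h5
  exact DynFib678.isDynZ_id_iff.1 h4 X g

/-- If `Z(α) ≤ P(β)` and `α`, `β` commute then `Z(α) ≤ Z(β)`. -/
theorem ptZ_of_ptZ_ptP {α β : Red.Gm S ⟶ G} [IsMonHom α] [IsMonHom β] (hc : Comm α β)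
    (h : ∀ (X : Over S) (g : X ⟶ G), PtZ α g → PtP β g) (X : Over S) (g : X ⟶ G)
    (hg : PtZ α g) : PtZ β g := by
  have h1 := hG.1
  have h2 := hG.2.1
  obtain ⟨Z, _, z, hz, -⟩ := exists_isDynZ α
  obtain ⟨P, _, p, hp, -⟩ := exists_isDynP β
  obtain ⟨k, hk⟩ := (hp.iff_ptP _ z).2 (h _ _ hz.ptZ)
  obtain ⟨mu, hmu⟩ := (hz.iff_ptZ _ β).2 (comm_iff_ptZ.1 hc)
  have hzm := hz.isMonHom
  have hzmono := hz.mono
  have hpm := hp.isMonHom
  have hpmono := hp.mono
  have hzcl : IsClosedImmersion z.left := hz.isClosedImmersion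
  have hpcl : IsClosedImmersion p.left := hp.isClosedImmersion
  have hkm : IsMonHom k := isMonHom_of_comp k p (by rw [hk]; exact hzm)
  have hkcl : IsClosedImmersion k.left := by
    have h8 : IsClosedImmersion (k.left ≫ p.left) := by
      rw [← Over.comp_left, hk]
      exact hzcl
    exact .of_comp k.left p.left
  have hmum : IsMonHom mu := isMonHom_of_comp mu z (by rw [hmu]; infer_instance)
  have h3 := Groth.Agent.Redsub.H656.RedCent.ptZ_of_isReductive β hp k inferInstance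
    (isReductive_of_isDynZ α K3b143.dynK3 hG z hz) mu (by rw [hk, hmu])
  obtain ⟨x, rfl⟩ := (hz.iff_ptZ _ g).2 hg
  rw [← hk]
  exact h3.comp x

/-- Commuting cocharacters with `P(α) ≤ P(β)`: then `U(β) ≤ P(α)`. -/
theorem ptP_of_ptU {α β : Red.Gm S ⟶ G} [IsMonHom α] [IsMonHom β] (hc : Comm α β)
    (h : ∀ (X : Over S) (g : X ⟶ G), PtP α g → PtP β g) (X : Over S) (g : X ⟶ G)
    (hg : PtU β g) : PtP α g := by
  have h1 := hG.1
  have h2 := hG.2.1
  obtain ⟨P, _, p, hp, -⟩ := exists_isDynP α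
  obtain ⟨P', _, p', hp', -⟩ := exists_isDynP β
  obtain ⟨U, _, u, hu, -⟩ := exists_isDynU β
  have hpm := hp.isMonHom
  have hpmono := hp.mono
  have hpcl : IsClosedImmersion p.left := hp.isClosedImmersion
  have hps := hp.smooth
  have hPa : IsAffineHom P.hom := OppS172.isAffineHom_of_closed p hpcl h1
  have hum := hu.isMonHom
  have humono := hu.mono
  have hucl : IsClosedImmersion u.left := hu.isClosedImmersion
  have hus := hu.smooth
  -- `β` as a cocharacter of `P`
  obtain ⟨b, hb⟩ := (hp.iff_ptP _ β).2 (comm_iff_ptZ.1 hc).ptP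
  have hbm : IsMonHom b := isMonHom_of_comp b p (by rw [hb]; infer_instance)
  obtain ⟨W, _, w, hw, -⟩ := exists_isDynU b
  have hws := hw.smooth
  have hwcl : IsClosedImmersion w.left := hw.isClosedImmersion
  have hwm := hw.isMonHom
  have hwU : PtU β (w ≫ p) := by
    have := Func.ptU_map (lam := b) p hw.ptU
    rwa [hb] at this
  obtain ⟨f, hf⟩ := (hu.iff_ptU _ _).2 hwU
  have hwpcl : IsClosedImmersion (w ≫ p).left := by
    rw [Over.comp_left]
    infer_instance
  have hfcl : IsClosedImmersion f.left := by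
    have h8 : IsClosedImmersion (f.left ≫ u.left) := by
      rw [← Over.comp_left, hf]
      exact hwpcl
    exact .of_comp f.left u.left
  have hle : ∃ k : P ⟶ P', k ≫ p' = p := (hp'.iff_ptP _ _).2 (h _ _ hp.ptP)
  obtain ⟨k, hk⟩ := hle
  have hfiso : IsIso f := by
    refine FibIsoSch.isIso_of_fibres f fun s => ⟨AlgebraicClosure (S.residueField s), inferInstance,
      Red.geomPt s, geomPt_closedPoint s, ?_⟩
    obtain ⟨h3, h4⟩ := fibre_props G s h1 h2
    obtain ⟨A, _, _, e, he, hft, hred, hdom⟩ := OppK172.exists_chartK (Red.geomFibre s G)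
    have hinf : Infinite (AlgebraicClosure (S.residueField s)) := IsAlgClosed.instInfinite
    have hdom' : IsDomain A := hdom (hG.2.2 s).2.2.1
    have hRA : IsRedPt (AlgebraicClosure (S.residueField s)) A :=
      (BrRed2.isReductiveOver_iff.1 (BrRed2.isReductiveOver_of_iso e (hG.2.2 s))).2
    have hpb := hp.bc (Red.geomPt s)
    have hpb' := hp'.bc (Red.geomPt s)
    have hub := hu.bc (Red.geomPt s)
    have hwb := hw.bc (Red.geomPt s)
    have i1 := hpb.isMonHom
    have i2 := hpb'.isMonHom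
    have i3 := hub.isMonHom
    have i4 := hwb.isMonHom
    have i5 := hub.mono
    have i7 : Smooth (Red.bc (Red.geomPt s) U).hom := hub.smooth
    have i6 : IsClosedImmersion ((Over.pullback (Red.geomPt s)).map p).left :=
      hpb.isClosedImmersion
    obtain ⟨B, hB, hBle⟩ := PbAll.k1 _ A hRA (lamB (bcLam α (Red.geomPt s)) (chartId e))
    have h5 : Psub (lamB (bcLam α (Red.geomPt s)) (chartId e)) ≤
        Psub (lamB (bcLam β (Red.geomPt s)) (chartId e)) := by
      rw [← OppK172.ptsSub_isDynP hpb e, ← OppK172.ptsSub_isDynP hpb' e]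
      refine ptsSub_le_of_comp _ _ ((Over.pullback (Red.geomPt s)).map k) ?_
      rw [← Category.assoc, ← Functor.map_comp, hk]
    have h6 : ptsSub ((Over.pullback (Red.geomPt s)).map u ≫ e.hom) ≤
        ptsSub ((Over.pullback (Red.geomPt s)).map p ≫ e.hom) := by
      rw [OppK172.ptsSub_isDynU hub e, OppK172.ptsSub_isDynP hpb e]
      exact (BorelPts172.Usub_le_of_le_Psub hB _ (hBle.trans h5)).trans hBle
    have i8 : IsClosedImmersion ((Over.pullback (Red.geomPt s)).map p ≫ e.hom).left :=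
      DynGeom678.isClosedImmersion_comp_iso _ i6 e
    obtain ⟨f', hf'⟩ := exists_factor_of_le ((Over.pullback (Red.geomPt s)).map u ≫ e.hom)
      ((Over.pullback (Red.geomPt s)).map p ≫ e.hom) h6
    rw [← Category.assoc, cancel_mono] at hf'
    -- `f'` is a point of `U_P(b)`
    have h7 : PtU (bcLam b (Red.geomPt s)) f' := by
      rw [← ptU_map_iff ((Over.pullback (Red.geomPt s)).map p), ← bcLam_comp, hb, hf']
      exact hub.ptU
    obtain ⟨g', hg'⟩ := (hwb.iff_ptU _ _).2 h7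
    have h8 : (Over.pullback (Red.geomPt s)).map f ≫ (Over.pullback (Red.geomPt s)).map u =
        (Over.pullback (Red.geomPt s)).map w ≫ (Over.pullback (Red.geomPt s)).map p := by
      rw [← Functor.map_comp, hf, Functor.map_comp]
    have i9 := hwb.mono
    have i10 := hpb.mono
    refine ⟨g', ?_, ?_⟩
    · rw [← cancel_mono ((Over.pullback (Red.geomPt s)).map w),
        ← cancel_mono ((Over.pullback (Red.geomPt s)).map p), Category.assoc _ g' _, hg',
        Category.assoc, hf', h8, Category.id_comp]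
    · rw [← cancel_mono ((Over.pullback (Red.geomPt s)).map u), Category.assoc, h8,
        ← Category.assoc, hg', hf', Category.id_comp]
  obtain ⟨x, rfl⟩ := (hu.iff_ptU _ g).2 hg
  have h9 : u = inv f ≫ w ≫ p := by rw [← hf, IsIso.inv_hom_id_assoc]
  rw [h9]
  have h10 := hp.ptP.comp (x ≫ inv f ≫ w)
  simpa using h10

end Any

section Affine

variable {R : Type u} [CommRing R] {G : Over (Spec (CommRingCat.of R))} [GrpObj G]
  (hG : Red.IsReductive G)
variable {α β : Red.Gm (Spec (CommRingCat.of R)) ⟶ G} [IsMonHom α] [IsMonHom β]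
  (hc : Comm α β)

instance (α : Red.Gm (Spec (CommRingCat.of R)) ⟶ G) [IsMonHom α] : IsMonHom (negLam α) := by
  unfold negLam
  infer_instance

include hG hc in
/-- `P(α) ≤ P(β)` implies `Z(α) ≤ Z(β)`. -/
theorem ptZ_of_le (h : Le α β) {X : Over (Spec (CommRingCat.of R))} {g : X ⟶ G}
    (hg : PtZ α g) : PtZ β g :=
  ptZ_of_ptZ_ptP hG hc (fun X g hg => h X g hg.ptP) X g hg

include hG hc in
/-- `P(α) ≤ P(β)` implies `U(β) ≤ U(α)`. -/
theorem ptU_of_le (h : Le α β) {X : Over (Spec (CommRingCat.of R))} {g : X ⟶ G}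
    (hg : PtU β g) : PtU α g := by
  have h1 := hG.1
  obtain ⟨z, u, hz, hu, rfl⟩ := PtP.exists_levi (ptP_of_ptU hG hc h X g hg)
  have h2 : PtU β z := (levi_pt hc Kd.U hz hu hg).1
  have h3 : z = 1 := eq_one_of_ptU_ptZ h2 (ptZ_of_le hG hc h hz)
  rw [h3, _root_.one_mul]
  exact hu

include hG hc in
/-- `P(α) ≤ P(β)` implies `P(-α) ≤ P(-β)`. -/
theorem le_neg (h : Le α β) : Le (negLam α) (negLam β) := by
  intro X g hg
  have h1 := hG.1
  have h2 := hG.2.1
  obtain ⟨Q, _, q, hq, -⟩ := exists_isDynP (negLam α)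
  have hqm := hq.isMonHom
  have hqmono := hq.mono
  have hqcl : IsClosedImmersion q.left := hq.isClosedImmersion
  have hqs := hq.smooth
  have hQa : IsAffineHom Q.hom := OppS172.isAffineHom_of_closed q hqcl h1
  obtain ⟨b, hb⟩ := (hq.iff_ptP _ β).2 (comm_iff_ptZ.1 hc.neg_left).ptP
  have hbm : IsMonHom b := isMonHom_of_comp b q (by rw [hb]; infer_instance)
  have hqc : ∀ s, ConnectedSpace (Red.geomFibre s Q).left := fun s => by
    have := DynGeom678.isIntegral_geomFibre_isDynP hq s (connected_fibres hG s)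
    infer_instance
  have h3 := ptP_neg_of hqc b (fun X x hx => by
    have h4 : PtP β (x ≫ q) := by
      have := OppS172.ptP_push q hx
      rwa [hb] at this
    have h5 : PtP (negLam α) (x ≫ q) := hq.ptP.comp x
    obtain ⟨z, u, hz, hu, hzu⟩ := PtP.exists_levi h4
    have h6 : PtP (negLam α) u := (levi_pt hc.neg_left.symm Kd.P hz hu (by rw [hzu]; exact h5)).2
    have h7 : u = 1 := eq_one_of_ptU_ptP' (ptU_of_le hG hc h hu) h6
    rw [h7, _root_.mul_one] at hzu
    rw [← OppS172.ptZ_push_iff q, hb, ← hzu]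
    exact hz)
  obtain ⟨y, rfl⟩ := (hq.iff_ptP _ g).2 hg
  have h8 := OppS172.ptP_push q (h3 _ y)
  have h9 : negLam b ≫ q = negLam β := by
    rw [negLam, negLam, Category.assoc, hb]
  rwa [h9] at h8

include hG hc in
/-- `P(α) ≤ P(β)` implies `U(-β) ≤ U(-α)`. -/
theorem ptU_neg_of_le (h : Le α β) {X : Over (Spec (CommRingCat.of R))} {g : X ⟶ G}
    (hg : PtU (negLam β) g) : PtU (negLam α) g :=
  ptU_of_le hG hc.neg_left.neg_right (le_neg hG hc h) hg

include hG hc in
/-- `P(α) ≤ P(β)` iff `P(-α) ≤ P(-β)`. -/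
theorem le_neg_iff : Le (negLam α) (negLam β) ↔ Le α β := by
  constructor
  · intro h
    have := le_neg hG hc.neg_left.neg_right h
    rwa [negLam_negLam, negLam_negLam] at this
  · exact le_neg hG hc

end Affine

end Groth.Agent.RedSub.H664.RedFacts
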