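import Groth.Agent.RedSub.H664.Calc3

/-!
# The first wall between two commuting cocharacters

`first_wall` : `α`, `β` commute, no `P(aα + bβ)` (`a, b > 0`) is strictly contained in `P(α)`, and
`P(α) ⊄ P(β)`; then some `P(aα + bβ)` with `a, b > 0` strictly contains `P(α)`.
-/

set_option autoImplicit false
set_option linter.unusedSectionVars false

universe u

open CategoryTheory MonoidalCategory CartesianMonoidalCategory MonObj GrpObj AlgebraicGeometry Limits
open Groth.Agent.Sga3B.Parab Groth.Agent.Sga3B.Parab.Chart998 Groth.Agent.Sga3B.RG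
open Groth.Agent.Sga3B.Parab.OrbM156 Groth.Agent.Sga3B.Parab.Dyn998
open Groth.Agent.RedSub.H664.Comb Groth.Agent.RedSub.H664.Calc2 Groth.Agent.RedSub.H664.Calc3

namespace Groth.Agent.RedSub.H664.Wall

variable {R : Type u} [CommRing R] {G : Over (Spec (CommRingCat.of R))} [GrpObj G]
  [IsAffineHom G.hom]
variable {α β : Red.Gm (Spec (CommRingCat.of R)) ⟶ G} [IsMonHom α] [IsMonHom β]

/-- The cocharacter `α + rβ`, up to a positive multiple. -/
noncomputable def ka (α β : Red.Gm (Spec (CommRingCat.of R)) ⟶ G) (r : ℚ) :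
    Red.Gm (Spec (CommRingCat.of R)) ⟶ G := cmb r.den r.num α β

omit [IsAffineHom G.hom] in
lemma ka_zero : ka α β 0 = α := by
  rw [ka]
  simp only [Rat.num_zero, Rat.den_zero, Nat.cast_one]
  exact cmb_one_zero

lemma sign_iff (r : ℚ) (m : ℤ × ℤ) :
    0 ≤ (r.den : ℤ) * m.1 + r.num * m.2 ↔ 0 ≤ (m.1 : ℚ) + r * m.2 := by
  have h1 : ((((r.den : ℤ) * m.1 + r.num * m.2 : ℤ)) : ℚ) = r.den * ((m.1 : ℚ) + r * m.2) := by
    push_cast
    rw [mul_add]
    congr 1
    rw [← _root_.mul_assoc, _root_.mul_comm (r.den : ℚ) r, Rat.mul_den_eq_num]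
  have h2 : (0 : ℚ) < r.den := by exact_mod_cast r.den_pos
  rw [← Int.cast_nonneg_iff (R := ℚ), h1, mul_nonneg_iff_of_pos_left h2]

variable [LocallyOfFiniteType G.hom]

theorem first_wall (h : Comm α β)
    (hmin : ∀ a b : ℤ, 0 < a → 0 < b → Le (cmb a b α β) α → Le α (cmb a b α β))
    (hne : ¬ Le α β) :
    ∃ a b : ℤ, 0 < a ∧ 0 < b ∧ Le α (cmb a b α β) ∧ ¬ Le (cmb a b α β) α := by
  classical
  by_contra hcon
  push Not at hcon
  obtain ⟨F, hF⟩ := exists_finset h
  have hle : ∀ r s : ℚ, (∀ m ∈ F, 0 ≤ (m.1 : ℚ) + r * m.2 → 0 ≤ (m.1 : ℚ) + s * m.2) →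
      Le (ka α β r) (ka α β s) := by
    intro r s H X g hg
    refine hF Kd.P Kd.P r.den r.num s.den s.num (fun m hm => ?_) (fun h0 => h0) X g hg
    change 0 ≤ _ → 0 ≤ _
    rw [sign_iff, sign_iff]
    exact H m hm
  let crit : Finset ℚ := (F.image fun m => -(m.1 : ℚ) / m.2).filter fun c => 0 < c
  have hcrit : ∀ m ∈ F, ∀ s t : ℚ, 0 ≤ s → (m.1 : ℚ) + s * m.2 < 0 → 0 ≤ (m.1 : ℚ) + t * m.2 →
      s < t → ∃ c ∈ crit, s < c ∧ c ≤ t := by
    intro m hm s t hs h1 h2 hst
    have hm2 : (0 : ℚ) < m.2 := by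
      by_contra h3
      push Not at h3
      nlinarith
    have h4 : s < -(m.1 : ℚ) / m.2 := by
      rw [lt_div_iff₀ hm2]
      linarith
    refine ⟨-(m.1 : ℚ) / m.2, ?_, h4, ?_⟩
    · exact Finset.mem_filter.2 ⟨Finset.mem_image_of_mem _ hm, lt_of_le_of_lt hs h4⟩
    · rw [div_le_iff₀ hm2]
      linarith
  have hcrit' : ∀ m ∈ F, ∀ s t : ℚ, 0 < s → 0 ≤ (m.1 : ℚ) + s * m.2 → (m.1 : ℚ) + t * m.2 < 0 →
      s < t → ∃ c ∈ crit, s ≤ c ∧ c < t := by
    intro m hm s t hs h1 h2 hst
    have hm2 : (m.2 : ℚ) < 0 := by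
      by_contra h3
      push Not at h3
      nlinarith
    have h4 : s ≤ -(m.1 : ℚ) / m.2 := by
      rw [le_div_iff_of_neg hm2]
      linarith
    refine ⟨-(m.1 : ℚ) / m.2, ?_, h4, ?_⟩
    · exact Finset.mem_filter.2 ⟨Finset.mem_image_of_mem _ hm, lt_of_lt_of_le hs h4⟩
    · rw [div_lt_iff_of_neg hm2]
      linarith
  have key : ∀ n : ℕ, ∀ r : ℚ, 0 ≤ r → (crit.filter fun c => c < r).card ≤ n →
      Le α (ka α β r) ∧ Le (ka α β r) α := by
    intro n
    induction n with
    | zero =>
      intro r hr hn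
      rcases hr.eq_or_lt with rfl | hr
      · rw [ka_zero]
        exact ⟨Le.refl _, Le.refl _⟩
      have hemp : ∀ c ∈ crit, r ≤ c := by
        intro c hc
        by_contra h1
        have : c ∈ crit.filter fun c => c < r := Finset.mem_filter.2 ⟨hc, not_le.1 h1⟩
        rw [Finset.card_eq_zero.1 (Nat.le_zero.1 hn)] at this
        simp at this
      have h1 : Le (ka α β (r / 2)) α := by
        have := hle (r / 2) 0 (fun m hm hm' => ?_)
        · rwa [ka_zero] at this
        · by_contra h2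
          obtain ⟨c, hc, -, hc'⟩ := hcrit m hm 0 (r / 2) le_rfl (not_le.1 h2) hm' (by linarith)
          have := hemp c hc
          linarith
      have h2 : Le α (ka α β (r / 2)) :=
        hmin _ _ (by exact_mod_cast (r / 2).den_pos) (Rat.num_pos.2 (by linarith)) h1
      have h3 : Le (ka α β (r / 2)) (ka α β r) := hle _ _ (fun m hm hm' => by
        by_contra h4
        obtain ⟨c, hc, -, hc'⟩ := hcrit' m hm (r / 2) r (by linarith) hm' (not_le.1 h4)
          (by linarith)
        have := hemp c hc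
        linarith)
      have h4 : Le α (ka α β r) := h2.trans h3
      exact ⟨h4, hcon _ _ (by exact_mod_cast r.den_pos) (Rat.num_pos.2 hr) h4⟩
    | succ n ih =>
      intro r hr hn
      rcases hr.eq_or_lt with rfl | hr
      · rw [ka_zero]
        exact ⟨Le.refl _, Le.refl _⟩
      rcases (crit.filter fun c => c < r).eq_empty_or_nonempty with hE | hE
      · exact ih r hr.le (by rw [hE]; simp)
      let s := (crit.filter fun c => c < r).max' hE
      have hs := Finset.max'_mem _ hE
      have hs1 : s ∈ crit := (Finset.mem_filter.1 hs).1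
      have hs2 : s < r := (Finset.mem_filter.1 hs).2
      have hs0 : 0 < s := (Finset.mem_filter.1 hs1).2
      have hsmax : ∀ c ∈ crit, c < r → c ≤ s := fun c hc hcr =>
        Finset.le_max' _ c (Finset.mem_filter.2 ⟨hc, hcr⟩)
      have h0 : Le α (ka α β s) ∧ Le (ka α β s) α := by
        refine ih s hs0.le ?_
        have h1 : (crit.filter fun c => c < s) ⊂ (crit.filter fun c => c < r) := by
          rw [Finset.ssubset_iff_of_subset]
          · exact ⟨s, hs, fun h => lt_irrefl _ (Finset.mem_filter.1 h).2⟩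
          · intro c hc
            rw [Finset.mem_filter] at hc ⊢
            exact ⟨hc.1, hc.2.trans hs2⟩
        have := Finset.card_lt_card h1
        omega
      have hst : s < (s + r) / 2 := by linarith
      have htr : (s + r) / 2 < r := by linarith
      have h1 : Le (ka α β ((s + r) / 2)) α := by
        refine Le.trans (hle _ s (fun m hm hm' => ?_)) h0.2
        by_contra h2
        obtain ⟨c, hc, hc1, hc'⟩ := hcrit m hm s _ hs0.le (not_le.1 h2) hm' hst
        have := hsmax c hc (lt_of_le_of_lt hc' htr)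
        linarith
      have h2 : Le α (ka α β ((s + r) / 2)) :=
        hmin _ _ (by exact_mod_cast ((s + r) / 2).den_pos) (Rat.num_pos.2 (by linarith)) h1
      have h3 : Le (ka α β ((s + r) / 2)) (ka α β r) := hle _ _ (fun m hm hm' => by
        by_contra h4
        obtain ⟨c, hc, hc1, hc'⟩ := hcrit' m hm _ r (by linarith) hm' (not_le.1 h4) htr
        have := hsmax c hc hc'
        linarith)
      have h4 : Le α (ka α β r) := h2.trans h3
      exact ⟨h4, hcon _ _ (by exact_mod_cast r.den_pos) (Rat.num_pos.2 hr) h4⟩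
  -- a large ratio
  obtain ⟨r, hr0, hr⟩ : ∃ r : ℚ, 0 < r ∧ ∀ c ∈ crit, c < r := by
    refine ⟨1 + ∑ c ∈ crit, |c|, by positivity, fun c hc => ?_⟩
    have h1 := Finset.single_le_sum (f := fun c : ℚ => |c|) (fun c _ => abs_nonneg c) hc
    have h2 := le_abs_self c
    linarith
  apply hne
  refine (key _ r hr0.le le_rfl).1.trans ?_
  intro X g hg
  have := hF Kd.P Kd.P r.den r.num 0 1 (fun m hm hm' => ?_) (fun h0 => h0) X g hg
  · rwa [cmb_zero_one] at this
  · have hm1 := (sign_iff r m).1 hm'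
    simp only [Kd.cond, zero_mul, _root_.one_mul, zero_add]
    by_contra h1
    have hm2 : (m.2 : ℚ) < 0 := by exact_mod_cast not_le.1 h1
    have h4 : r ≤ -(m.1 : ℚ) / m.2 := by
      rw [le_div_iff_of_neg hm2]
      linarith
    have h5 := hr _ (Finset.mem_filter.2 ⟨Finset.mem_image_of_mem (fun m : ℤ × ℤ =>
      -(m.1 : ℚ) / m.2) hm, lt_of_lt_of_le hr0 h4⟩)
    linarith

end Groth.Agent.RedSub.H664.Wall
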