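import Groth.Agent.RedSub.H664.Ad
import Groth.Agent.RedSub.H664.Wall
import Groth.Agent.RedSub.H664.Noeth
import Groth.Agent.RedSub.H664.RedFacts

/-!
# Cocharacters with minimal `P`, opposite pairs

`G` reductive over `Spec R`; `D5 G`: any two cocharacters have commuting conjugates under
`U(α)(R)` and `U(β)(R)`.
-/

set_option autoImplicit false
set_option linter.unusedSectionVars false

universe u

open CategoryTheory MonoidalCategory CartesianMonoidalCategory MonObj GrpObj AlgebraicGeometry Limits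
open Groth.Agent.Sga3B Groth.Agent.Sga3B.Parab Groth.Agent.Sga3B.Parab.Dyn998
open Groth.Agent.Sga3B.Parab.DynLevi998 Groth.Agent.Sga3B.Parab.DynInter998
open Groth.Agent.RedSub.H664.Comb Groth.Agent.RedSub.H664.Calc2 Groth.Agent.RedSub.H664.Calc3
open Groth.Agent.RedSub.H664.Ad Groth.Agent.RedSub.H664.RedFacts

namespace Groth.Agent.RedSub.H664.Min

variable {R : Type u} [CommRing R] {G : Over (Spec (CommRingCat.of R))} [GrpObj G]

/-- Any two cocharacters have commuting conjugates under sections of their unipotent radicals. -/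
def D5 (G : Over (Spec (CommRingCat.of R))) [GrpObj G] : Prop :=
  ∀ (α β : Red.Gm (Spec (CommRingCat.of R)) ⟶ G), IsMonHom α → IsMonHom β →
    ∃ u v : 𝟙_ (Over (Spec (CommRingCat.of R))) ⟶ G, PtU α u ∧ PtU β v ∧
      Comm (ad u α) (ad v β)

/-- `P(α)` is minimal. -/
def IsMin (α : Red.Gm (Spec (CommRingCat.of R)) ⟶ G) : Prop :=
  ∀ β : Red.Gm (Spec (CommRingCat.of R)) ⟶ G, IsMonHom β → Le β α → Le α β

/-- `P(α) = P(β)` -/
def Eqv (α β : Red.Gm (Spec (CommRingCat.of R)) ⟶ G) : Prop := Le α β ∧ Le β α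

lemma Eqv.refl (α : Red.Gm (Spec (CommRingCat.of R)) ⟶ G) : Eqv α α := ⟨Le.refl _, Le.refl _⟩

variable {α β ξ : Red.Gm (Spec (CommRingCat.of R)) ⟶ G}

lemma Eqv.symm (h : Eqv α β) : Eqv β α := ⟨h.2, h.1⟩

lemma Eqv.trans (h : Eqv α β) (h' : Eqv β ξ) : Eqv α ξ := ⟨h.1.trans h'.1, h'.2.trans h.2⟩

lemma IsMin.of_eqv (h : IsMin α) (h' : Eqv α β) : IsMin β := fun ξ hξ h1 =>
  h'.2.trans (h ξ hξ (h1.trans h'.2))

/-- `P(α)` and `P(β)` are opposite. -/
def Opp (α β : Red.Gm (Spec (CommRingCat.of R)) ⟶ G) : Prop :=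
  ∃ κ : Red.Gm (Spec (CommRingCat.of R)) ⟶ G, IsMonHom κ ∧ Eqv κ α ∧ Eqv (negLam κ) β

lemma Opp.symm (h : Opp α β) : Opp β α := by
  obtain ⟨κ, hκ, h1, h2⟩ := h
  exact ⟨negLam κ, inferInstance, h2, by rwa [negLam_negLam]⟩

lemma Opp.congr {α' β' : Red.Gm (Spec (CommRingCat.of R)) ⟶ G} (h : Opp α β) (h1 : Eqv α α')
    (h2 : Eqv β β') : Opp α' β' := by
  obtain ⟨κ, hκ, h3, h4⟩ := h
  exact ⟨κ, hκ, h3.trans h1, h4.trans h2⟩

lemma opp_neg (α : Red.Gm (Spec (CommRingCat.of R)) ⟶ G) [IsMonHom α] : Opp α (negLam α) :=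
  ⟨α, inferInstance, Eqv.refl _, Eqv.refl _⟩

section Aff

variable [IsAffineHom G.hom]

lemma Eqv.ad (h : Eqv α β) (w : 𝟙_ (Over (Spec (CommRingCat.of R))) ⟶ G) :
    Eqv (ad w α) (ad w β) := ⟨Le.ad h.1 w, Le.ad h.2 w⟩

lemma eqv_ad [IsMonHom α] {w : 𝟙_ (Over (Spec (CommRingCat.of R))) ⟶ G} (hw : PtP α w) :
    Eqv (Ad.ad w α) α := ⟨ad_le hw, le_ad hw⟩

lemma IsMin.ad (h : IsMin α) (w : 𝟙_ (Over (Spec (CommRingCat.of R))) ⟶ G) :
    IsMin (Ad.ad w α) := by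
  intro β hβ h1
  have h2 := Le.ad h1 w⁻¹
  rw [ad_inv_ad] at h2
  have h3 := Le.ad (h _ inferInstance h2) w
  rwa [ad_ad_inv] at h3

lemma Opp.ad (h : Opp α β) (w : 𝟙_ (Over (Spec (CommRingCat.of R))) ⟶ G) :
    Opp (Ad.ad w α) (Ad.ad w β) := by
  obtain ⟨κ, hκ, h1, h2⟩ := h
  exact ⟨Ad.ad w κ, inferInstance, Eqv.ad h1 w, by rw [negLam_ad]; exact Eqv.ad h2 w⟩

variable [LocallyOfFiniteType G.hom]

/-- **(M1)** a cocharacter commuting with a minimal one is centralised by its centraliser. -/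
theorem IsMin.ptZ [IsMonHom α] [IsMonHom β] (h : IsMin α) (hc : Comm α β)
    {X : Over (Spec (CommRingCat.of R))} {g : X ⟶ G} (hg : PtZ α g) : PtZ β g := by
  have key : ∀ (β : Red.Gm (Spec (CommRingCat.of R)) ⟶ G), IsMonHom β → Comm α β → PtP β g := by
    intro β hβ hc
    obtain ⟨N, -, hN⟩ := exists_N hc
    have h1 : Le (cmb N 1 α β) α := by
      intro X g hg
      obtain ⟨z, u, rfl, hz, -, hu⟩ := ((hN N le_rfl X g).1).1 hg
      exact PtP.mul hz.ptP hu.ptP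
    have h2 := h _ (isMonHom_cmb hc N 1) h1 X g hg.ptP
    exact (pt_cmb_iff hc Kd.P one_pos hg).1 h2
  exact ptP_and_iff g |>.1 ⟨key β inferInstance hc, key (negLam β) inferInstance hc.neg_right⟩

/-- The first wall from a minimal cocharacter. -/
theorem IsMin.wall [IsMonHom α] [IsMonHom β] (h : IsMin α) (hc : Comm α β) (hne : ¬ Le α β) :
    ∃ a b : ℤ, 0 < a ∧ 0 < b ∧ Le α (cmb a b α β) ∧ ¬ Le (cmb a b α β) α :=
  Wall.first_wall hc (fun a b _ _ h1 => h _ (isMonHom_cmb hc a b) h1) hne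

/-- Minimal cocharacters exist below any cocharacter. -/
theorem exists_isMin [IsNoetherianRing R] [IsMonHom α] :
    ∃ β : Red.Gm (Spec (CommRingCat.of R)) ⟶ G, IsMonHom β ∧ Le β α ∧ IsMin β := by
  have : Nonempty {β : Red.Gm (Spec (CommRingCat.of R)) ⟶ G // IsMonHom β ∧ Le β α} :=
    ⟨⟨α, inferInstance, Le.refl _⟩⟩
  obtain ⟨⟨β, hβ, h1⟩, h2⟩ := Noeth.exists_min_P
    (fun β : {β : Red.Gm (Spec (CommRingCat.of R)) ⟶ G // IsMonHom β ∧ Le β α} => β.1)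
    (fun β => β.2.1)
  exact ⟨β, hβ, h1, fun ξ hξ h3 => h2 ⟨ξ, hξ, h3.trans h1⟩ h3⟩

end Aff

section Red

variable (hG : Red.IsReductive G) (h5 : D5 G) [IsMonHom α] [IsMonHom β]
include hG h5

/-- `P(α) ≤ P(β)` implies `U(β) ≤ U(α)`. -/
theorem ptU_of_le' (h : Le α β) {X : Over (Spec (CommRingCat.of R))} {g : X ⟶ G}
    (hg : PtU β g) : PtU α g := by
  have h1 := hG.1
  obtain ⟨u, v, hu, hv, hc⟩ := h5 α β inferInstance inferInstance
  rw [← ptU_ad_iff hu.ptP]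
  rw [← ptU_ad_iff hv.ptP] at hg
  exact ptU_of_le hG hc (((eqv_ad hu.ptP).1.trans h).trans (eqv_ad hv.ptP).2) hg

/-- Among the cocharacters with the same `P` as `β` there is one commuting with `α`. -/
theorem exists_comm (h : Le α β) : ∃ w : 𝟙_ (Over (Spec (CommRingCat.of R))) ⟶ G, PtP β w ∧
    Comm α (ad w β) := by
  have h1 := hG.1
  obtain ⟨u, v, hu, hv, hc⟩ := h5 α β inferInstance inferInstance
  refine ⟨u⁻¹ * v, (h _ _ hu.ptP).inv.mul hv.ptP, ?_⟩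
  have h2 := Comm.ad hc u⁻¹
  rwa [ad_inv_ad, ← ad_mul] at h2

theorem IsMin.neg (h : IsMin α) : IsMin (negLam α) := by
  have h1 := hG.1
  intro β hβ h2
  obtain ⟨u, v, hu, hv, hc⟩ := h5 β (negLam α) inferInstance inferInstance
  rw [← negLam_ad] at hc
  -- `β₁ = ad u β`, `α₁ = ad v α`
  have h3 : Le (Ad.ad u β) (negLam (Ad.ad v α)) := by
    rw [negLam_ad]
    exact ((eqv_ad hu.ptP).1.trans h2).trans (eqv_ad hv.ptP).2
  have h4 := le_neg hG hc h3
  rw [negLam_negLam] at h4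
  have h6 := (h.ad v) _ inferInstance h4
  have hc' : Comm (Ad.ad v α) (negLam (Ad.ad u β)) := by
    have := hc.neg_left.neg_right.symm
    rwa [negLam_negLam] at this
  have h7 := le_neg hG hc' h6
  rw [negLam_negLam, negLam_ad] at h7
  exact ((eqv_ad hv.ptP).2.trans h7).trans (eqv_ad hu.ptP).1

/-- The cocharacters opposite to `α` are, up to equivalence, the conjugates of `-α` under
`U(α)`. -/
theorem Opp.exists_conj (h : Opp α β) :
    ∃ u : 𝟙_ (Over (Spec (CommRingCat.of R))) ⟶ G, PtU α u ∧ Eqv β (Ad.ad u (negLam α)) := by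
  have h1 := hG.1
  obtain ⟨κ, hκ, h2, h3⟩ := h
  obtain ⟨u, v, hu, hv, hc⟩ := h5 κ α inferInstance inferInstance
  have h4 : Eqv (Ad.ad u κ) (Ad.ad v α) := ((eqv_ad hu.ptP).trans h2).trans (eqv_ad hv.ptP).symm
  have h6 : Eqv (negLam (Ad.ad u κ)) (negLam (Ad.ad v α)) := ⟨le_neg hG hc h4.1,
    le_neg hG hc.symm h4.2⟩
  rw [negLam_ad, negLam_ad] at h6
  have h7 := Eqv.ad h6 u⁻¹
  rw [ad_inv_ad, ← ad_mul] at h7
  have h8 : PtU α u := ptU_of_le' hG h5 h2.2 hu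
  exact ⟨u⁻¹ * v, h8.inv.mul hv, h3.symm.trans h7⟩

theorem Opp.isMin (h : Opp α β) (hα : IsMin α) : IsMin β := by
  have h1 := hG.1
  obtain ⟨u, hu, h2⟩ := Opp.exists_conj hG h5 h
  exact ((hα.neg hG h5).ad u).of_eqv h2.symm

end Red

end Groth.Agent.RedSub.H664.Min
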