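import Groth.Agent.RedSub.H664.Min
import Groth.Agent.Sga3B.Parab.PbKN751
import Groth.Agent.Sga3B.RG.PbQ890

/-!
# Self-normalisation and the rank one lemma

* `ptP_of_eqv_ad` : `w P(α) w⁻¹ = P(α)` implies `w ∈ P(α)`;
* `opp_ad` : if `P(α)` is both minimal and maximal, and `w ∉ P(α)`, then `w P(α) w⁻¹` and `P(α)`
  are opposite.
-/

set_option autoImplicit false
set_option linter.unusedSectionVars false

universe u

open CategoryTheory MonoidalCategory CartesianMonoidalCategory MonObj GrpObj AlgebraicGeometry Limits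
open Groth.Agent.Sga3B Groth.Agent.Sga3B.Parab Groth.Agent.Sga3B.Parab.Dyn998
open Groth.Agent.Sga3B.Parab.DynLevi998 Groth.Agent.Sga3B.Parab.DynInter998
open Groth.Agent.Sga3B.Parab.DynExist998
open Groth.Agent.RedSub.H664.Comb Groth.Agent.RedSub.H664.Calc2 Groth.Agent.RedSub.H664.Calc3
open Groth.Agent.RedSub.H664.Ad Groth.Agent.RedSub.H664.RedFacts Groth.Agent.RedSub.H664.Min

namespace Groth.Agent.RedSub.H664.Rank1

variable {R : Type u} [CommRing R] {G : Over (Spec (CommRingCat.of R))} [GrpObj G]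
variable {α : Red.Gm (Spec (CommRingCat.of R)) ⟶ G} [IsMonHom α]
  {w : 𝟙_ (Over (Spec (CommRingCat.of R))) ⟶ G}
variable (hG : Red.IsReductive G)
include hG

/-- A section normalising `P(α)` is in `P(α)`. -/
theorem ptP_of_eqv_ad (h : Eqv (ad w α) α) : PtP α w := by
  have h1 := hG.1
  have h2 := hG.2.1
  obtain ⟨P, _, p, hp, -⟩ := exists_isDynP α
  have hpar : Red.IsParabolic p := isParabolic_of_isDynP α Uncond688.dynK1 hG p hp
  have hN := PbKN751.isNormalizerOf_of_KN (fun K _ _ => RG.PbQ890.kn K) hG p hpar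
  refine (hp.iff_ptP _ w).1 ((hN.2.2 _ w).2 fun X' x h' => ?_)
  have hx : x = toUnit X' := toUnit_unique _ _
  subst hx
  have h3 : PtP α (h' ≫ p) := hp.ptP.comp h'
  have h4 := pt_ad_ad_iff Kd.P w α (h' ≫ p)
  have h5 := pt_ad_iff Kd.P w α (h' ≫ p)
  constructor
  · obtain ⟨y, hy⟩ := (hp.iff_ptP _ (ad w (h' ≫ p))).2 (h.1 _ _ (h4.2 h3))
    exact ⟨y, by rw [hy]; rfl⟩
  · obtain ⟨y, hy⟩ := (hp.iff_ptP _ (ad w⁻¹ (h' ≫ p))).2 (h5.1 (h.2 _ _ h3))
    refine ⟨y, ?_⟩
    rw [hy, ad, GrpObj.comp_inv, _root_.inv_inv]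

/-- **The rank one lemma.** -/
theorem opp_ad (h5 : D5 G) (hmin : IsMin α)
    (hmax : ∀ κ : Red.Gm (Spec (CommRingCat.of R)) ⟶ G, IsMonHom κ → Le α κ →
      Le κ α ∨ ∀ (X : Over (Spec (CommRingCat.of R))) (g : X ⟶ G), PtP κ g)
    (hw : ¬ PtP α w) : Opp (ad w α) α := by
  have h1 := hG.1
  have h2 := hG.2.1
  obtain ⟨u, v, hu, hv, hc⟩ := h5 α (ad w α) inferInstance inferInstance
  have e1 : Eqv (ad u α) α := eqv_ad hu.ptP
  have e2 : Eqv (ad v (ad w α)) (ad w α) := eqv_ad hv.ptP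
  have m1 : IsMin (ad u α) := IsMin.ad hmin u
  have m2 : IsMin (ad v (ad w α)) := IsMin.ad (IsMin.ad hmin w) v
  by_cases hle : Le (ad u α) (negLam (ad v (ad w α)))
  · exact ⟨ad v (ad w α), inferInstance, e2,
      ⟨((m2.neg hG h5) _ inferInstance hle).trans e1.1, e1.2.trans hle⟩⟩
  · exfalso
    obtain ⟨a, b, ha, hb, hle1, hle2⟩ := m1.wall hc.neg_right hle
    have hm := isMonHom_cmb hc.neg_right a b
    have hall : ∀ (X : Over (Spec (CommRingCat.of R))) (g : X ⟶ G),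
        PtP (cmb a b (ad u α) (negLam (ad v (ad w α)))) g :=
      (hmax _ hm (e1.2.trans hle1)).resolve_left fun h => hle2 (h.trans e1.2)
    have hallZ := ptZ_of_forall_ptP hG _ hall
    have heq : cmb a b (ad u α) (negLam (ad v (ad w α))) =
        cmb a (-b) (ad u α) (ad v (ad w α)) := by
      rw [cmb_eq, cmb_eq]
      congr 1
      rw [sm, sm, negLam, ← Category.assoc, ← DSmap_comp]
      congr 2
      ext
      simp [mlt]
    rw [heq] at hallZ
    have key : Eqv (ad u α) (ad v (ad w α)) :=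
      ⟨fun X g hg => (pt_iff_of_ptZ hc Kd.P ha hb (hallZ X g)).1 hg,
        fun X g hg => (pt_iff_of_ptZ hc Kd.P ha hb (hallZ X g)).2 hg⟩
    exact hw (ptP_of_eqv_ad hG ((e2.symm.trans key.symm).trans e1))

end Groth.Agent.RedSub.H664.Rank1
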