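import Groth.Agent.RedSub.H664.BcSec
import Groth.Agent.RedSub.H661.Main

/-!
# Dominance and smoothness of `P × int(τ)Q ⟶ G` for points `τ` of `G` with values in a scheme

For `t : T ⟶ S` and `τ : T ⟶ G` over `S`: `sec t τ` is the corresponding section of `G_T`,
`DenseT p q t τ x` : the map `P_T × int(τ) Q_T ⟶ G_T` is dominant on the fibre over `x : T`.
-/

set_option autoImplicit false
set_option linter.unusedSectionVars false

universe u

open CategoryTheory MonoidalCategory CartesianMonoidalCategory MonObj GrpObj AlgebraicGeometry Limits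
open Groth.Agent.Sga3B Groth.Agent.Sga3B.Parab Groth.Agent.Sga3B.Parab.Dyn998
open Groth.Agent.RedSub.H661 Groth.Agent.RedSub.H661.Dense Groth.Agent.RedSub.H661.Borels
open Groth.Agent.RedSub.H664.Comb Groth.Agent.RedSub.H664.Ad Groth.Agent.RedSub.H664.BcSec

namespace Groth.Agent.RedSub.H664.SecT

variable {S T T' : Scheme.{u}}

section Sec

variable {G U : Over S} [GrpObj G] [GrpObj U]

/-- `T` as an `S`-scheme in two ways -/
noncomputable def mkIso (t : T ⟶ S) : Over.mk t ≅ (Over.map t).obj (𝟙_ (Over T)) :=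
  Over.isoMk (Iso.refl _) (by
    change 𝟙 _ ≫ 𝟙 _ ≫ t = t
    simp)

/-- the section of `G_T` given by a `T`-point of `G` -/
noncomputable def sec (t : T ⟶ S) (τ : Over.mk t ⟶ G) : 𝟙_ (Over T) ⟶ Red.bc t G :=
  DSPts.bcEquiv t (𝟙_ (Over T)) G ((mkIso t).inv ≫ τ)

lemma sec_fst (t : T ⟶ S) (τ : Over.mk t ⟶ G) :
    (sec t τ).left ≫ pullback.fst G.hom t = τ.left := by
  rw [sec, DSPts.bcEquiv_fst, Over.comp_left]
  exact Category.id_comp _

lemma sec_ext {t : T ⟶ S} {x y : 𝟙_ (Over T) ⟶ Red.bc t G}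
    (h : x.left ≫ pullback.fst G.hom t = y.left ≫ pullback.fst G.hom t) : x = y := by
  ext1
  apply pullback.hom_ext h
  have h1 : x.left ≫ (Red.bc t G).hom = y.left ≫ (Red.bc t G).hom := by rw [Over.w, Over.w]
  exact h1

lemma sec_mul (t : T ⟶ S) (σ τ : Over.mk t ⟶ G) : sec t (σ * τ) = sec t σ * sec t τ := by
  rw [sec, MonObj.comp_mul, _root_.map_mul]
  rfl

lemma sec_comp (t : T ⟶ S) (τ : Over.mk t ⟶ U) (u : U ⟶ G) :
    sec t (τ ≫ u) = sec t τ ≫ (Over.pullback t).map u := by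
  rw [sec, sec, DSPts.bcEquiv_comp, Category.assoc]

lemma exists_sec (t : T ⟶ S) (x : 𝟙_ (Over T) ⟶ Red.bc t G) : ∃ τ : Over.mk t ⟶ G, sec t τ = x := by
  refine ⟨(mkIso t).hom ≫ (DSPts.bcEquiv t (𝟙_ (Over T)) G).symm x, ?_⟩
  rw [sec, Iso.inv_hom_id_assoc, MulEquiv.apply_symm_apply]

lemma bcSec_eq (t : T ⟶ S) (g : 𝟙_ (Over S) ⟶ G) : bcSec t g = sec t (toUnit _ ≫ g) := by
  apply sec_ext
  have h0 := (EtHom.isPullback_map t g).w
  have h1 : (Functor.LaxMonoidal.ε (Over.pullback t)).left ≫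
      pullback.fst (𝟙_ (Over S)).hom t = t := by
    have h2 : (Functor.LaxMonoidal.ε (Over.pullback t)).left ≫
      pullback.snd (𝟙_ (Over S)).hom t = 𝟙 T := Over.w (Functor.LaxMonoidal.ε (Over.pullback t))
    have h3 : pullback.fst (𝟙_ (Over S)).hom t ≫ 𝟙 S = pullback.snd (𝟙_ (Over S)).hom t ≫ t :=
      pullback.condition
    have h3' : pullback.fst (𝟙_ (Over S)).hom t = pullback.snd (𝟙_ (Over S)).hom t ≫ t :=
      (Category.comp_id (pullback.fst (𝟙_ (Over S)).hom t)).symm.trans h3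
    rw [h3', ← Category.assoc, h2]
    exact Category.id_comp t
  rw [sec_fst, bcSec, Over.comp_left, Over.comp_left, Category.assoc]
  have h4 : ((Over.pullback t).map g).left ≫ pullback.fst G.hom t =
      pullback.fst (𝟙_ (Over S)).hom t ≫ g.left := h0.symm
  rw [h4, ← Category.assoc, h1]
  rfl

lemma bcSec_sec (f : T' ⟶ T) (t : T ⟶ S) (τ : Over.mk t ⟶ G) :
    bcSec f (sec t τ) ≫ (BcIso.bcCompIso f t G).inv.hom.hom =
      sec (f ≫ t) ((Over.homMk f : Over.mk (f ≫ t) ⟶ Over.mk t) ≫ τ) := by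
  apply sec_ext
  rw [sec_fst, Over.comp_left, Category.assoc, DynIso147.bcCompIso_inv_left, bcSec_eq,
    ← Category.assoc, sec_fst, Over.comp_left, Category.assoc, sec_fst, Over.comp_left]
  congr 1

end Sec

end Groth.Agent.RedSub.H664.SecT
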