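import Groth.Agent.RedSub.H664.SecT
import Groth.Agent.Sga3B.Parab.OppRow172

/-!
# Dominance and smoothness of `P × int(τ)Q ⟶ G`: base change, passage between them
-/

set_option autoImplicit false
set_option linter.unusedSectionVars false

universe u

open CategoryTheory MonoidalCategory CartesianMonoidalCategory MonObj GrpObj AlgebraicGeometry Limits
open Groth.Agent.Sga3B Groth.Agent.Sga3B.Parab Groth.Agent.Sga3B.Parab.Dyn998
open Groth.Agent.Sga3B.Parab.GeomBC147 Groth.Agent.Sga3B.Parab.RedCover147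
open Groth.Agent.Sga3B.Parab.DynExist998
open Groth.Agent.RedSub.H661 Groth.Agent.RedSub.H661.Dense Groth.Agent.RedSub.H661.Borels
open Groth.Agent.RedSub.H664.Comb Groth.Agent.RedSub.H664.Ad Groth.Agent.RedSub.H664.BcSec
open Groth.Agent.RedSub.H664.SecT

namespace Groth.Agent.RedSub.H664.Transp

variable {S T T' : Scheme.{u}}

section Iso

variable {G G' P P' Q Q' : Over S} [GrpObj G] [GrpObj G']

/-- Transport of the multiplication map. -/
theorem mul_transport (e : G ⟶ G') [IsMonHom e] (a : P ⟶ P') (b : Q ⟶ Q') {p : P ⟶ G} {q : Q ⟶ G}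
    {p' : P' ⟶ G'} {q' : Q' ⟶ G'} (hp : a ≫ p' = p ≫ e) (hq : b ≫ q' = q ≫ e) :
    (a ⊗ₘ b) ≫ (p' ⊗ₘ q') ≫ μ[G'] = ((p ⊗ₘ q) ≫ μ[G]) ≫ e := by
  rw [← Category.assoc, MonoidalCategory.tensorHom_comp_tensorHom, hp, hq,
    ← MonoidalCategory.tensorHom_comp_tensorHom, Category.assoc, Category.assoc, IsMonHom.mul_hom]

lemma left_inv_left {X Y : Over S} (e : X ≅ Y) : e.hom.left ≫ e.inv.left = 𝟙 _ := by
  rw [← Over.comp_left, e.hom_inv_id]
  rfl

lemma denseAt_transport (e : G ≅ G') [IsMonHom e.hom] (a : P ≅ P') (b : Q ≅ Q') {p : P ⟶ G}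
    {q : Q ⟶ G} {p' : P' ⟶ G'} {q' : Q' ⟶ G'} (hp : a.hom ≫ p' = p ≫ e.hom)
    (hq : b.hom ≫ q' = q ≫ e.hom) {s : S} (h : DenseAt p q s) : DenseAt p' q' s := by
  rw [denseAt_iff] at h ⊢
  intro O hO x hxO hxs
  have h1 : (a.hom ⊗ₘ b.hom) ≫ (p' ⊗ₘ q') ≫ μ[G'] = ((p ⊗ₘ q) ≫ μ[G]) ≫ e.hom :=
    mul_transport e.hom a.hom b.hom hp hq
  have h2 : e.inv.left ≫ e.hom.left = 𝟙 _ := left_inv_left e.symm
  obtain ⟨w, hws, hwO⟩ := h (e.hom.left ⁻¹' O) (hO.preimage e.hom.left.continuous)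
    (e.inv.left x) (by
      change e.hom.left (e.inv.left x) ∈ O
      rw [← Scheme.Hom.comp_apply, h2]
      exact hxO) (by
      rw [← Scheme.Hom.comp_apply, Over.w]
      exact hxs)
  refine ⟨(a.hom ⊗ₘ b.hom).left w, ?_, ?_⟩
  · rw [← Scheme.Hom.comp_apply, Over.w]
    exact hws
  · rw [← Scheme.Hom.comp_apply, ← Over.comp_left, h1, Over.comp_left, Scheme.Hom.comp_apply]
    exact hwO

end Iso

section BC

/-- Dominance on a fibre can be checked after base change. -/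
theorem denseAt_of_bc (f : T ⟶ S) {G P Q : Over S} [GrpObj G] {p : P ⟶ G} {q : Q ⟶ G} {x : T}
    (h : DenseAt ((Over.pullback f).map p) ((Over.pullback f).map q) x) : DenseAt p q (f x) := by
  rw [denseAt_iff] at h ⊢
  intro O hO y hyO hys
  obtain ⟨y', hy1, hy2⟩ := Scheme.Pullback.exists_preimage_pullback (f := G.hom) (g := f) y x hys
  have hy1' : EtHom.pr f G y' = y := hy1
  obtain ⟨w, hws, hwO⟩ := h (EtHom.pr f G ⁻¹' O) (hO.preimage (EtHom.pr f G).continuous) y' (by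
      change EtHom.pr f G y' ∈ O
      rw [hy1']
      exact hyO) hy2
  rw [map_mul_comp, Over.comp_left] at hwO
  let j : Red.bc f P ⊗ Red.bc f Q ⟶ Red.bc f (P ⊗ Q) := Functor.LaxMonoidal.μ (Over.pullback f) P Q
  have h1 := (EtHom.isPullback_map f ((p ⊗ₘ q) ≫ μ[G])).w
  refine ⟨EtHom.pr f (P ⊗ Q) (j.left w), ?_, ?_⟩
  · have h2 : EtHom.pr f (P ⊗ Q) ≫ (P ⊗ Q).hom = (Red.bc f (P ⊗ Q)).hom ≫ f := pullback.condition
    rw [← Scheme.Hom.comp_apply, h2, Scheme.Hom.comp_apply, ← Scheme.Hom.comp_apply j.left, Over.w j,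
      hws]
  · rw [← Scheme.Hom.comp_apply, h1, Scheme.Hom.comp_apply]
    exact hwO

variable {X Y : Over S} {φ : X ⟶ Y}

lemma smooth_bc_comp (g : T' ⟶ T) (f : T ⟶ S) :
    Smooth ((Over.pullback (g ≫ f)).map φ).left ↔
      Smooth ((Over.pullback g).map ((Over.pullback f).map φ)).left := by
  have h1 : (Over.pullback (g ≫ f)).map φ = (Over.pullbackComp g f).hom.app X ≫
      (Over.pullback g).map ((Over.pullback f).map φ) ≫ (Over.pullbackComp g f).inv.app Y := by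
    have := (Over.pullbackComp g f).hom.naturality φ
    rw [← Category.assoc]
    exact ((Iso.comp_inv_eq ((Over.pullbackComp g f).app Y)).2 this.symm).symm
  have e1 : IsIso ((Over.pullbackComp g f).hom.app X).left :=
    SmoothMul.isIso_left ((Over.pullbackComp g f).app X)
  have e2 : IsIso ((Over.pullbackComp g f).inv.app Y).left :=
    SmoothMul.isIso_left ((Over.pullbackComp g f).app Y).symm
  rw [h1, Over.comp_left, Over.comp_left]
  rw [MorphismProperty.cancel_left_of_respectsIso @Smooth,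
    MorphismProperty.cancel_right_of_respectsIso @Smooth]

/-- Being smooth étale locally at a point is stable under base change. -/
theorem locSm_bc (f : T ⟶ S) {x : T} (h : LocSm φ (f x)) : LocSm ((Over.pullback f).map φ) x := by
  obtain ⟨U, g, hg, ⟨z, hz⟩, h⟩ := h
  obtain ⟨z', hz1, hz2⟩ := Scheme.Pullback.exists_preimage_pullback (f := g) (g := f) z x hz
  refine ⟨pullback g f, pullback.snd g f, inferInstance, ⟨z', hz2⟩, ?_⟩
  rw [← smooth_bc_comp, ← pullback.condition, smooth_bc_comp]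
  exact MorphismProperty.of_isPullback (P := @Smooth) (EtHom.isPullback_map (pullback.fst g f) _) h

/-- Being smooth étale locally at a point is an open condition. -/
theorem isOpen_locSm (φ : X ⟶ Y) : IsOpen {s : S | LocSm φ s} := by
  rw [isOpen_iff_forall_mem_open]
  rintro s ⟨U, g, hg, hs, h⟩
  exact ⟨Set.range g, fun s' hs' => ⟨U, g, hg, hs', h⟩, g.isOpenMap.isOpen_range, hs⟩

lemma locSm_transport {X' Y' : Over S} {φ' : X' ⟶ Y'} (a : X ≅ X') (e : Y ≅ Y')
    (he : a.hom ≫ φ' = φ ≫ e.hom) {s : S} (h : LocSm φ s) : LocSm φ' s := by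
  obtain ⟨U, g, hg, hs, h⟩ := h
  refine ⟨U, g, hg, hs, ?_⟩
  have h1 : ((Over.pullback g).mapIso a).hom ≫ (Over.pullback g).map φ' =
      (Over.pullback g).map φ ≫ ((Over.pullback g).mapIso e).hom := by
    rw [Functor.mapIso_hom, Functor.mapIso_hom, ← Functor.map_comp, he, Functor.map_comp]
  have e1 : IsIso ((Over.pullback g).mapIso a).hom.left :=
    SmoothMul.isIso_left ((Over.pullback g).mapIso a)
  have e2 : IsIso ((Over.pullback g).mapIso e).hom.left :=
    SmoothMul.isIso_left ((Over.pullback g).mapIso e)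
  have h2 : ((Over.pullback g).mapIso a).hom.left ≫ ((Over.pullback g).map φ').left =
      ((Over.pullback g).map φ).left ≫ ((Over.pullback g).mapIso e).hom.left := by
    rw [← Over.comp_left, h1, Over.comp_left]
  rw [← MorphismProperty.cancel_left_of_respectsIso @Smooth ((Over.pullback g).mapIso a).hom.left,
    h2, MorphismProperty.cancel_right_of_respectsIso @Smooth]
  exact h

end BC

section Pt

variable {G P Q : Over S} [GrpObj G] [GrpObj P] [GrpObj Q]

/-- `P_T × int(τ) Q_T ⟶ G_T` -/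
noncomputable def mulT (p : P ⟶ G) (q : Q ⟶ G) (t : T ⟶ S) (τ : Over.mk t ⟶ G) :
    Red.bc t P ⊗ Red.bc t Q ⟶ Red.bc t G :=
  ((Over.pullback t).map p ⊗ₘ Ad.ad (sec t τ) ((Over.pullback t).map q)) ≫ μ[Red.bc t G]

/-- `P_T × int(τ) Q_T ⟶ G_T` is dominant on the fibre over `x`. -/
def DenseT (p : P ⟶ G) (q : Q ⟶ G) (t : T ⟶ S) (τ : Over.mk t ⟶ G) (x : T) : Prop :=
  DenseAt ((Over.pullback t).map p) (Ad.ad (sec t τ) ((Over.pullback t).map q)) x

/-- `P_T × int(τ) Q_T ⟶ G_T` is smooth étale locally at `x`. -/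
def LocT (p : P ⟶ G) (q : Q ⟶ G) (t : T ⟶ S) (τ : Over.mk t ⟶ G) (x : T) : Prop :=
  LocSm (mulT p q t τ) x

variable (p : P ⟶ G) (q : Q ⟶ G) (f : T' ⟶ T) (t : T ⟶ S) (τ : Over.mk t ⟶ G)

/-- the point obtained by restriction -/
noncomputable abbrev res : Over.mk (f ≫ t) ⟶ G :=
  (Over.homMk f : Over.mk (f ≫ t) ⟶ Over.mk t) ≫ τ

lemma w_p : (GeomBC147.isoOf (BcIso.bcCompIso f t P)).hom ≫
    (Over.pullback f).map ((Over.pullback t).map p) =
      (Over.pullback (f ≫ t)).map p ≫ (GeomBC147.isoOf (BcIso.bcCompIso f t G)).hom :=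
  GeomFib147.bcCompIso_natural f t p

/-- compatibility of `ad` with group homomorphisms -/
lemma ad_comp_hom {G G' X : Over S} [GrpObj G] [GrpObj G'] (e : G ⟶ G') [IsMonHom e]
    (g : 𝟙_ (Over S) ⟶ G) (x : X ⟶ G) : Ad.ad g x ≫ e = Ad.ad (g ≫ e) (x ≫ e) := by
  rw [Ad.ad, Ad.ad, MonObj.mul_comp, MonObj.mul_comp, GrpObj.inv_comp, Category.assoc]

lemma w_sec : bcSec f (sec t τ) =
    sec (f ≫ t) (res f t τ) ≫ (GeomBC147.isoOf (BcIso.bcCompIso f t G)).hom := by
  have h1 : (BcIso.bcCompIso f t G).inv.hom.hom =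
      (GeomBC147.isoOf (BcIso.bcCompIso f t G)).inv := rfl
  rw [← bcSec_sec, h1, Category.assoc, Iso.inv_hom_id, Category.comp_id]

lemma w_q : (GeomBC147.isoOf (BcIso.bcCompIso f t Q)).hom ≫
    (Over.pullback f).map (Ad.ad (sec t τ) ((Over.pullback t).map q)) =
      Ad.ad (sec (f ≫ t) (res f t τ)) ((Over.pullback (f ≫ t)).map q) ≫
        (GeomBC147.isoOf (BcIso.bcCompIso f t G)).hom := by
  have h1 := w_p q f t (G := G)
  have : IsMonHom (GeomBC147.isoOf (BcIso.bcCompIso f t G)).hom :=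
    inferInstanceAs (IsMonHom (BcIso.bcCompIso f t G).hom.hom.hom)
  rw [ad_comp_hom, ← w_sec, ← h1, map_ad, comp_ad]

theorem denseT_of_res {x : T'} (h : DenseT p q (f ≫ t) (res f t τ) x) : DenseT p q t τ (f x) := by
  have : IsMonHom (GeomBC147.isoOf (BcIso.bcCompIso f t G)).hom :=
    inferInstanceAs (IsMonHom (BcIso.bcCompIso f t G).hom.hom.hom)
  exact denseAt_of_bc f (denseAt_transport _ _ _ (w_p p f t) (w_q q f t τ) h)

theorem denseT_of_bc {t' : T' ⟶ S} (y : Over.mk t' ⟶ Over.mk t) {x : T'}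
    (h : DenseT p q t' (y ≫ τ) x) : DenseT p q t τ (y.left x) := by
  obtain ⟨f, w, rfl⟩ : ∃ (f : T' ⟶ T) (w : f ≫ t = t'), y = Over.homMk f w :=
    ⟨y.left, Over.w y, rfl⟩
  subst w
  exact denseT_of_res p q f t τ h

theorem locT_res {x : T'} (h : LocT p q t τ (f x)) : LocT p q (f ≫ t) (res f t τ) x := by
  have : IsMonHom (GeomBC147.isoOf (BcIso.bcCompIso f t G)).hom :=
    inferInstanceAs (IsMonHom (BcIso.bcCompIso f t G).hom.hom.hom)
  have h1 := locSm_bc f h
  let j := asIso (Functor.LaxMonoidal.μ (Over.pullback f) (Red.bc t P) (Red.bc t Q))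
  have h2 : j.hom ≫ (Over.pullback f).map (mulT p q t τ) =
      ((Over.pullback f).map ((Over.pullback t).map p) ⊗ₘ
        (Over.pullback f).map (Ad.ad (sec t τ) ((Over.pullback t).map q))) ≫
          μ[Red.bc f (Red.bc t G)] := (map_mul_comp f _ _).symm
  have h3 := mul_transport (GeomBC147.isoOf (BcIso.bcCompIso f t G)).hom
    (GeomBC147.isoOf (BcIso.bcCompIso f t P)).hom (GeomBC147.isoOf (BcIso.bcCompIso f t Q)).hom
    (w_p p f t) (w_q q f t τ)
  have h4 : (MonoidalCategory.tensorIso (GeomBC147.isoOf (BcIso.bcCompIso f t P))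
      (GeomBC147.isoOf (BcIso.bcCompIso f t Q)) ≪≫ j).hom ≫
        (Over.pullback f).map (mulT p q t τ) =
      mulT p q (f ≫ t) (res f t τ) ≫ (GeomBC147.isoOf (BcIso.bcCompIso f t G)).hom := by
    rw [Iso.trans_hom, Category.assoc, h2]
    exact h3
  refine locSm_transport (MonoidalCategory.tensorIso (GeomBC147.isoOf (BcIso.bcCompIso f t P))
    (GeomBC147.isoOf (BcIso.bcCompIso f t Q)) ≪≫ j).symm
    (GeomBC147.isoOf (BcIso.bcCompIso f t G)).symm ?_ h1
  rw [Iso.symm_hom, Iso.symm_hom, Iso.inv_comp_eq, ← Category.assoc, Iso.eq_comp_inv]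
  exact h4.symm

theorem locT_bc {t' : T' ⟶ S} (y : Over.mk t' ⟶ Over.mk t) {x : T'}
    (h : LocT p q t τ (y.left x)) : LocT p q t' (y ≫ τ) x := by
  obtain ⟨f, w, rfl⟩ : ∃ (f : T' ⟶ T) (w : f ≫ t = t'), y = Over.homMk f w :=
    ⟨y.left, Over.w y, rfl⟩
  subst w
  exact locT_res p q f t τ h

/-- conjugates of parabolic subgroups -/
theorem isParabolic_ad {q : Q ⟶ G} (hq : Red.IsParabolic q) (g : 𝟙_ (Over S) ⟶ G) :
    Red.IsParabolic (Ad.ad g q) := by
  have h := OppRow172.isParabolic_comp_iso hq (Grp.mkIso' (Core.innerIso g))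
  have h2 : Ad.ad g q = q ≫ (Core.innerIso g).hom := (Core.comp_innerIso g q).symm
  rw [h2]
  exact h

theorem locSm_of_six (hG : Red.IsReductive G) {p : P ⟶ G} {q : Q ⟶ G} (hp : Red.IsParabolic p)
    (hq : Red.IsParabolic q) {s : S} (h : SixAt.Six p q s) : LocSm ((p ⊗ₘ q) ≫ μ[G]) s := by
  obtain ⟨U, f, hf, hs, hB⟩ := h
  have hqf : LocallyQuasiFinite f := Desc.LQF.of_etale f
  have hp' := isParabolic_bc f hp
  have hq' := isParabolic_bc f hq
  have hpm : IsMonHom ((Over.pullback f).map p) := hp'.1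
  have hqm : IsMonHom ((Over.pullback f).map q) := hq'.1
  exact locSm_of_smooth s f hs (smooth_bc_of_mul f (smooth_of_body (isReductive_bc f hG)
    hp'.2.2.1 hq'.2.2.1 hB))

theorem locSm_of_denseAt (hG : Red.IsReductive G) {p : P ⟶ G} {q : Q ⟶ G} (hp : Red.IsParabolic p)
    (hq : Red.IsParabolic q) {s : S} (h : DenseAt p q s) : LocSm ((p ⊗ₘ q) ≫ μ[G]) s :=
  locSm_of_six hG hp hq (Main.six_of_denseAt hG hp hq h)

/-- From points to sections. -/
theorem locSm_of_locT {g : 𝟙_ (Over S) ⟶ G} {s : S} (h : LocT p q (𝟙 S) g s) :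
    LocSm ((p ⊗ₘ Ad.ad g q) ≫ μ[G]) s := by
  have h1 : bcSec (𝟙 S) g = sec (𝟙 S) g := by
    rw [bcSec_eq]
    exact congrArg (sec (𝟙 S)) ((congrArg (· ≫ g) (toUnit_unique (toUnit (𝟙_ (Over S))) (𝟙 _))).trans
      (Category.id_comp g))
  have h2 : LocSm (((Over.pullback (𝟙 S)).map p ⊗ₘ (Over.pullback (𝟙 S)).map (Ad.ad g q)) ≫
      μ[Red.bc (𝟙 S) G]) s := by
    rw [map_ad, h1]
    exact h
  exact LocSm.of_mul_bc (𝟙 S) h2

end Pt

section Sch

/-- Dominance passes to larger subgroups. -/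
lemma denseAt_mono {G P Q P' Q' : Over S} [GrpObj G] {p : P ⟶ G} {q : Q ⟶ G} {p' : P' ⟶ G}
    {q' : Q' ⟶ G} (a : P ⟶ P') (b : Q ⟶ Q') (hp : a ≫ p' = p) (hq : b ≫ q' = q) {s : S}
    (h : DenseAt p q s) : DenseAt p' q' s := by
  rw [denseAt_iff] at h ⊢
  intro O hO x hxO hxs
  obtain ⟨w, hws, hwO⟩ := h O hO x hxO hxs
  refine ⟨(a ⊗ₘ b).left w, ?_, ?_⟩
  · rw [← Scheme.Hom.comp_apply, Over.w]
    exact hws
  · rw [← Scheme.Hom.comp_apply, ← Over.comp_left, ← Category.assoc,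
      MonoidalCategory.tensorHom_comp_tensorHom, hp, hq]
    exact hwO

end Sch

end Groth.Agent.RedSub.H664.Transp
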