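import Groth.Agent.Sga3B.Parab.OrbPar156
import Groth.Agent.Sga3B.Parab.DynInter998

/-!
# Weight conditions on points

`G` is an affine group over `S = Spec R` with a global chart `e : G ≅ Spec A`, and
`J : D_S(M) ⟶ G` a homomorphism.  A point `g` of `G` satisfies `Wt J e T` (`T ⊆ M`) if
`g(a) = ε(a)` for all `a ∈ A` homogeneous (for the conjugation grading) of degree outside `T`.
The conditions `PtP`, `PtU`, `PtZ` for the cocharacters `lamN J ν` are of this form.
-/

set_option autoImplicit false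
set_option linter.unusedSectionVars false

universe u

open CategoryTheory MonoidalCategory CartesianMonoidalCategory MonObj GrpObj AlgebraicGeometry Limits
open scoped LaurentPolynomial Polynomial TensorProduct
open WithConv
open Groth.Agent.Books.AffBridge Groth.Agent.Books.DynBasic Groth.Agent.Books.DynLim
open Groth.Agent.Sga3B.Parab Groth.Agent.Sga3B.Parab.Chart998 Groth.Agent.Sga3B.RG
open Groth.Agent.Sga3B.Parab.OrbM156 Groth.Agent.Sga3B.Parab.Dyn998
open Groth.Agent.Sga3B.Parab.DynLevi998 Groth.Agent.Sga3B.Parab.DynInter998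

namespace Groth.Agent.RedSub.H664.Weights

variable {R : Type u} [CommRing R] {G : Over (Spec (CommRingCat.of R))} [GrpObj G]
variable {M : Type} [AddCommGroup M] (J : Red.DS (Spec (CommRingCat.of R)) M ⟶ G) [IsMonHom J]
variable {A : Type u} [CommRing A] [HopfAlgebra R A]
  (e : Red.bc (𝟙 (Spec (CommRingCat.of R))) G ≅ SpecOver R A) [IsMonHom e.hom]

/-- An affine point, with values in the `R`-algebra `C`, has all its coordinates of weight outside
`T` equal to those of the unit. -/
def WtA (T : Set M) {C : Type u} [CommRing C] [Algebra R C] (g : A →ₐ[R] C) : Prop :=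
  ∀ m ∉ T, ∀ a ∈ ConjGrade.gr (piB J e) (Multiplicative.ofAdd m),
    g a = algebraMap R C (Coalgebra.counit a)

/-- The weight condition on general points. -/
def Wt (T : Set M) {X : Over (Spec (CommRingCat.of R))} (g : X ⟶ G) : Prop :=
  ∀ (C : Type u) [CommRing C] [Algebra R C] (c : Spec (CommRingCat.of C) ⟶ Spec (CommRingCat.of R))
    (hc : Spec.map (CommRingCat.ofHom (algebraMap R C)) ≫ 𝟙 _ = c) (x : aff C c ⟶ X)
    (g' : A →ₐ[R] C), pt e hc g' = x ≫ g → WtA J e T g'

variable {J e}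

lemma Wt.comp {T : Set M} {X Y : Over (Spec (CommRingCat.of R))} {g : X ⟶ G} (h : Wt J e T g)
    (y : Y ⟶ X) : Wt J e T (y ≫ g) := fun C _ _ c hc x g' hg' =>
  h C c hc (x ≫ y) g' (by rw [hg', Category.assoc])

lemma Wt.mono {T T' : Set M} (hT : T ⊆ T') {X : Over (Spec (CommRingCat.of R))} {g : X ⟶ G}
    (h : Wt J e T g) : Wt J e T' g := fun C _ _ c hc x g' hg' m hm =>
  h C c hc x g' hg' m fun h' => hm (hT h')

lemma Wt.inter {T T' : Set M} {X : Over (Spec (CommRingCat.of R))} {g : X ⟶ G}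
    (h : Wt J e T g) (h' : Wt J e T' g) : Wt J e (T ∩ T') g := by
  intro C _ _ c hc x g' hg' m hm
  by_cases hm' : m ∈ T
  · exact h' C c hc x g' hg' m fun h'' => hm ⟨hm', h''⟩
  · exact h C c hc x g' hg' m hm'

lemma wtA_of_inter {T T' T'' : Set M} (hT : T ∩ T' ⊆ T'') {X : Over (Spec (CommRingCat.of R))}
    {g : X ⟶ G} (h : Wt J e T g) (h' : Wt J e T' g) : Wt J e T'' g :=
  (h.inter h').mono hT

variable (J e)

/-- A condition which is an affine condition on affine points. -/
lemma wt_iff_of {T : Set M}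
    (Q : ∀ (C : Type u) [CommRing C] (c : Spec (CommRingCat.of C) ⟶ Spec (CommRingCat.of R)),
      (aff C c ⟶ G) → Prop)
    (h : ∀ (C : Type u) [CommRing C] [Algebra R C]
      (c : Spec (CommRingCat.of C) ⟶ Spec (CommRingCat.of R))
      (hc : Spec.map (CommRingCat.ofHom (algebraMap R C)) ≫ 𝟙 _ = c) (g : A →ₐ[R] C),
      Q C c (pt e hc g) ↔ WtA J e T g) {X : Over (Spec (CommRingCat.of R))} (g : X ⟶ G) :
    (∀ (C : Type u) [CommRing C] (c : Spec (CommRingCat.of C) ⟶ Spec (CommRingCat.of R))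
      (x : aff C c ⟶ X), Q C c (x ≫ g)) ↔ Wt J e T g := by
  constructor
  · intro H C _ _ c hc x g' hg'
    rw [← h C c hc g', hg']
    exact H C c x
  · intro H C _ c x
    letI : Algebra R C := (Spec.preimage c).hom.toAlgebra
    have hc : Spec.map (CommRingCat.ofHom (algebraMap R C)) ≫ 𝟙 _ = c := by
      rw [Category.comp_id]
      exact Spec.map_preimage c
    obtain ⟨g', hg'⟩ := (pt_bijective e hc).2 (x ≫ g)
    have h1 := (h C c hc g').2 (H C c hc x g' hg')
    change Q C c ((ptEquiv e hc) (toConv g')) at h1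
    rwa [show (ptEquiv e hc) (toConv g') = x ≫ g from hg'] at h1

variable {C : Type u} [CommRing C] [Algebra R C]
  {c : Spec (CommRingCat.of C) ⟶ Spec (CommRingCat.of R)}
  (hc : Spec.map (CommRingCat.ofHom (algebraMap R C)) ≫ 𝟙 _ = c)

lemma limEx_iff_wtA (ν : M →+ ℤ) (g : A →ₐ[R] C) :
    LimEx (lamN J ν) (pt e hc g) ↔ WtA J e {m | 0 ≤ ν m} g := by
  rw [limEx_lamN_iff J e hc ν g]
  constructor
  · intro h m hm a ha
    simp only [Set.mem_ofPred_eq, not_le] at hm
    rw [h (Multiplicative.ofAdd m) hm a ha, ConjGrade.counit_of_mem_gr (piB J e) ?_ ha, map_zero]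
    intro h0
    rw [ofAdd_eq_one] at h0
    rw [h0, map_zero] at hm
    exact lt_irrefl _ hm
  · intro h m hm a ha
    rw [h m.toAdd (by simpa using hm) a ha, ConjGrade.counit_of_mem_gr (piB J e) ?_ ha, map_zero]
    intro h0
    rw [h0, toAdd_one, map_zero] at hm
    exact lt_irrefl _ hm

lemma orbConst_iff_wtA (ν : M →+ ℤ) (g : A →ₐ[R] C) :
    OrbConst (lamN J ν) (pt e hc g) ↔ WtA J e {m | ν m = 0} g := by
  rw [orbConst_lamN_iff J e hc ν g]
  constructor
  · intro h m hm a ha
    simp only [Set.mem_ofPred_eq] at hm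
    rw [h (Multiplicative.ofAdd m) hm a ha, ConjGrade.counit_of_mem_gr (piB J e) ?_ ha, map_zero]
    intro h0
    rw [ofAdd_eq_one] at h0
    rw [h0, map_zero] at hm
    exact hm rfl
  · intro h m hm a ha
    rw [h m.toAdd (by simpa using hm) a ha, ConjGrade.counit_of_mem_gr (piB J e) ?_ ha, map_zero]
    intro h0
    rw [h0, toAdd_one, map_zero] at hm
    exact hm rfl

include hc in
lemma pr_lamN (ν : M →+ ℤ) {m : Multiplicative M} {a : A}
    (ha : a ∈ ConjGrade.gr (piB J e) m) (g : A →ₐ[R] C) (n : ℤ) :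
    g (pr (lamB (lamN J ν) e) n a) = if ν m.toAdd = n then g a else 0 := by
  rw [← coeff_conjOrbit, coeff_conjOrbit_lamN J e hc ν g ha]

lemma limOne_iff_wtA (ν : M →+ ℤ) (g : A →ₐ[R] C) :
    LimOne (lamN J ν) (pt e hc g) ↔ WtA J e {m | 0 < ν m} g := by
  rw [limOne_pt, limIsOne_iff]
  constructor
  · rintro ⟨h1, h2⟩ m hm a ha
    simp only [Set.mem_ofPred_eq, not_lt] at hm
    have h3 := fun n => pr_lamN J e hc ν ha g n
    change ∀ n, _ = if ν m = n then g a else 0 at h3
    rcases hm.lt_or_eq with h4 | h4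
    · have h5 := h1 _ h4 a
      rw [h3, if_pos rfl] at h5
      rw [h5, ConjGrade.counit_of_mem_gr (piB J e) ?_ ha, map_zero]
      intro h0
      rw [ofAdd_eq_one] at h0
      rw [h0, map_zero] at h4
      exact lt_irrefl _ h4
    · have h5 := h2 a
      rw [h3, if_pos h4] at h5
      exact h5
  · intro h
    refine ⟨fun n hn a => ?_, fun a => ?_⟩
    · refine ConjGrade.induction_gr (piB J e) ?_ ?_ ?_ a
      · rw [map_zero, map_zero]
      · intro a b ha hb
        rw [map_add, map_add, ha, hb, add_zero]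
      · intro m a ha
        rw [pr_lamN J e hc ν ha]
        split_ifs with h1
        · rw [h m.toAdd (by simp only [Set.mem_ofPred_eq, h1]; omega) a ha,
            ConjGrade.counit_of_mem_gr (piB J e) ?_ ha, map_zero]
          rintro rfl
          rw [toAdd_one, map_zero] at h1
          omega
        · rfl
    · refine ConjGrade.induction_gr (piB J e) ?_ ?_ ?_ a
      · rw [map_zero, map_zero, map_zero, map_zero]
      · intro a b ha hb
        rw [map_add, map_add, map_add, map_add, ha, hb]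
      · intro m a ha
        rw [pr_lamN J e hc ν ha]
        split_ifs with h1
        · exact h m.toAdd (by simp only [Set.mem_ofPred_eq, h1]; omega) a ha
        · rw [ConjGrade.counit_of_mem_gr (piB J e) ?_ ha, map_zero]
          rintro rfl
          rw [toAdd_one, map_zero] at h1
          exact h1 rfl

/-- `P_G(λ_ν)`. -/
theorem ptP_iff_wt (ν : M →+ ℤ) {X : Over (Spec (CommRingCat.of R))} (g : X ⟶ G) :
    PtP (lamN J ν) g ↔ Wt J e {m | 0 ≤ ν m} g :=
  wt_iff_of J e (fun _ _ _ g => LimEx (lamN J ν) g) (fun _ _ _ _ hc g => limEx_iff_wtA J e hc ν g) g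

/-- `U_G(λ_ν)`. -/
theorem ptU_iff_wt (ν : M →+ ℤ) {X : Over (Spec (CommRingCat.of R))} (g : X ⟶ G) :
    PtU (lamN J ν) g ↔ Wt J e {m | 0 < ν m} g :=
  wt_iff_of J e (fun _ _ _ g => LimOne (lamN J ν) g)
    (fun _ _ _ _ hc g => limOne_iff_wtA J e hc ν g) g

/-- `Z_G(λ_ν)`. -/
theorem ptZ_iff_wt (ν : M →+ ℤ) {X : Over (Spec (CommRingCat.of R))} (g : X ⟶ G) :
    PtZ (lamN J ν) g ↔ Wt J e {m | ν m = 0} g :=
  wt_iff_of J e (fun _ _ _ g => OrbConst (lamN J ν) g)
    (fun _ _ _ _ hc g => orbConst_iff_wtA J e hc ν g) g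

/-- Only finitely many weights matter. -/
theorem exists_finset_wt [Algebra.FiniteType R A] : ∃ F : Finset M,
    ∀ (T₁ : Set M) (T₂ : AddSubmonoid M), (∀ m ∈ F, m ∈ T₁ → m ∈ T₂) →
      ∀ (X : Over (Spec (CommRingCat.of R))) (g : X ⟶ G), Wt J e T₁ g → Wt J e (T₂ : Set M) g := by
  classical
  obtain ⟨F, hF⟩ := exists_finset J e
  refine ⟨F.image Multiplicative.toAdd, fun T₁ T₂ h X g hg C _ _ c hc x g' hg' => ?_⟩
  have h1 := hg C c hc x g' hg'
  have h2 := hF (AddSubmonoid.toSubmonoid T₂) C g' (fun m hm hmT a ha => by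
    have hmT' : m.toAdd ∉ T₂ := hmT
    rw [h1 m.toAdd (fun h' => hmT' (h _ (Finset.mem_image_of_mem _ hm) h')) a ha,
      ConjGrade.counit_of_mem_gr (piB J e) ?_ ha, map_zero]
    rintro rfl
    exact hmT (one_mem _))
  intro m hm a ha
  rw [h2 (Multiplicative.ofAdd m) hm a ha, ConjGrade.counit_of_mem_gr (piB J e) ?_ ha, map_zero]
  intro h0
  rw [ofAdd_eq_one] at h0
  exact hm (h0 ▸ T₂.zero_mem)

end Groth.Agent.RedSub.H664.Weights
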